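import Cfsg.Agent.H976.OddM.ParA
import Cfsg.Agent.H565.RV.Own

/-!
# TEAM RV, row `NRow` in the own odd characteristic: type `A_n` (helper565)

The double cosets of the maximal Young subgroups `S_k × S_l` of the symmetric group are self-inverse; the diagram
automorphisms of odd order are trivial.
-/

set_option autoImplicit false

namespace Cfsg.Agent.H565.RV.TypeA

open Cfsg.Agent.Tits.Core Cfsg.Agent.H976.OddM.ParA Cfsg.Agent.H454.PiBS
open Cfsg.Agent.LieRecognition.BNCox (cA cA_apply)
open Cfsg.Agent.S2530 (adj)

variable {n : ℕ}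

theorem YJ_compl (i : Fin n) : YJ ({i}ᶜ : Set (Fin n)) = Yg (fun x : Fin (n + 1) => decide (x.val ≤ i.val)) := by
  apply le_antisymm
  · refine (Subgroup.closure_le _).2 ?_
    rintro _ ⟨j, hj, rfl⟩ x
    have hji : j.val ≠ i.val := fun e => hj (Fin.ext e)
    change decide ((Equiv.swap j.castSucc j.succ x).val ≤ i.val) = decide (x.val ≤ i.val)
    rw [Equiv.swap_apply_def]
    split_ifs with h2 h3
    · rw [h2]
      simp only [Fin.val_succ, Fin.val_castSucc, decide_eq_decide]
      omega
    · rw [h3]
      simp only [Fin.val_succ, Fin.val_castSucc, decide_eq_decide]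
      omega
    · rfl
  · have key : ∀ (d : ℕ) (x y : Fin (n + 1)), (x.val + d ≤ i.val ∨ i.val < x.val) → x.val + d = y.val →
        y ∈ MulAction.orbit (YJ ({i}ᶜ : Set (Fin n))) x := by
      intro d
      induction d with
      | zero =>
        intro x y _ h
        have : y = x := Fin.ext (by omega)
        rw [this]
        exact MulAction.mem_orbit_self x
      | succ d ih =>
        intro x y hx h
        have hy := y.2
        have h1 := ih x ⟨x.val + d, by omega⟩ (by omega) rfl
        have h2 : Equiv.swap (⟨x.val + d, by omega⟩ : Fin (n + 1)) y ∈ YJ ({i}ᶜ : Set (Fin n)) := by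
          refine Subgroup.subset_closure ⟨⟨x.val + d, by omega⟩, ?_, ?_⟩
          · rw [Set.mem_compl_singleton_iff]
            intro e
            have e' := congrArg Fin.val e
            simp only at e'
            omega
          · unfold adj
            congr 1
            exact Fin.ext (by simp; omega)
        have h3 : y = (⟨_, h2⟩ : YJ ({i}ᶜ : Set (Fin n))) • (⟨x.val + d, by omega⟩ : Fin (n + 1)) := by
          change y = Equiv.swap _ _ _
          rw [Equiv.swap_apply_left]
        rw [h3]
        exact (MulAction.orbit_eq_iff.2 h1) ▸ MulAction.mem_orbit _ _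
    intro σ hσ
    rw [mem_YJ]
    intro x
    have h1 : decide ((σ x).val ≤ i.val) = decide (x.val ≤ i.val) := hσ x
    rw [decide_eq_decide] at h1
    rcases le_total x.val (σ x).val with h2 | h2
    · exact key ((σ x).val - x.val) x (σ x) (by omega) (by omega)
    · have h3 := key (x.val - (σ x).val) (σ x) x (by omega) (by omega)
      exact MulAction.mem_orbit_symm.1 h3

/-- two maps with fibres of the same cardinality differ by a permutation -/
theorem exists_perm {α β : Type*} [Fintype α] [DecidableEq β] (f g : α → β)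
    (h : ∀ b, Fintype.card {x // f x = b} = Fintype.card {x // g x = b}) :
    ∃ s : Equiv.Perm α, ∀ x, f (s x) = g x := by
  classical
  let e : ∀ b, {x // g x = b} ≃ {x // f x = b} := fun b => Fintype.equivOfCardEq (h b).symm
  refine ⟨(Equiv.sigmaFiberEquiv g).symm.trans ((Equiv.sigmaCongrRight e).trans (Equiv.sigmaFiberEquiv f)), ?_⟩
  intro x
  exact (e (g x) ⟨x, rfl⟩).2

theorem exists_swap {α : Type*} [Fintype α] [DecidableEq α] (c : α → Bool) (w : Equiv.Perm α) :
    ∃ s : Equiv.Perm α, ∀ x, c (s x) = c (w⁻¹ x) ∧ c (w⁻¹ (s x)) = c x := by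
  obtain ⟨s, hs⟩ := exists_perm (fun x => (c x, c (w⁻¹ x))) (fun x => (c (w⁻¹ x), c x)) (by
    have hc : (Finset.univ.filter fun x => c x = true).card = (Finset.univ.filter fun x => c (w⁻¹ x) = true).card := by
      apply Finset.card_bij (fun x _ => w x)
      · intro x hx
        rw [Finset.mem_filter] at hx ⊢
        refine ⟨Finset.mem_univ _, ?_⟩
        rw [ia]
        exact hx.2
      · intro x _ y _ h
        exact w.injective h
      · intro y hy
        rw [Finset.mem_filter] at hy
        exact ⟨w⁻¹ y, by rw [Finset.mem_filter]; exact ⟨Finset.mem_univ _, hy.2⟩, ai w y⟩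
    have h1 := Finset.card_filter_add_card_filter_not (s := Finset.univ.filter fun x => c x = true)
      (p := fun x => c (w⁻¹ x) = true)
    have h2 := Finset.card_filter_add_card_filter_not (s := Finset.univ.filter fun x => c (w⁻¹ x) = true)
      (p := fun x => c x = true)
    rw [Finset.filter_filter, Finset.filter_filter] at h1 h2
    have h3 : (Finset.univ.filter fun x => c x = true ∧ c (w⁻¹ x) = true).card =
        (Finset.univ.filter fun x => c (w⁻¹ x) = true ∧ c x = true).card := by
      congr 1
      ext x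
      simp only [Finset.mem_filter, Finset.mem_univ, true_and]
      exact and_comm
    have h4 : (Finset.univ.filter fun x => c x = true ∧ ¬ c (w⁻¹ x) = true).card =
        (Finset.univ.filter fun x => c (w⁻¹ x) = true ∧ ¬ c x = true).card := by omega
    rintro ⟨b1, b2⟩
    rw [Fintype.card_subtype, Fintype.card_subtype]
    cases b1 <;> cases b2
    · congr 1
      ext x
      simp only [Finset.mem_filter, Finset.mem_univ, true_and, Prod.mk.injEq]
      exact and_comm
    · have e1 : (Finset.univ.filter fun x => (c x, c (w⁻¹ x)) = (false, true)) =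
          (Finset.univ.filter fun x => c (w⁻¹ x) = true ∧ ¬ c x = true) := by
        ext x
        simp only [Finset.mem_filter, Finset.mem_univ, true_and, Prod.mk.injEq, Bool.not_eq_true]
        exact and_comm
      have e2 : (Finset.univ.filter fun x => (c (w⁻¹ x), c x) = (false, true)) =
          (Finset.univ.filter fun x => c x = true ∧ ¬ c (w⁻¹ x) = true) := by
        ext x
        simp only [Finset.mem_filter, Finset.mem_univ, true_and, Prod.mk.injEq, Bool.not_eq_true]
        exact and_comm
      rw [e1, e2, h4]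
    · have e1 : (Finset.univ.filter fun x => (c x, c (w⁻¹ x)) = (true, false)) =
          (Finset.univ.filter fun x => c x = true ∧ ¬ c (w⁻¹ x) = true) := by
        ext x
        simp only [Finset.mem_filter, Finset.mem_univ, true_and, Prod.mk.injEq, Bool.not_eq_true]
      have e2 : (Finset.univ.filter fun x => (c (w⁻¹ x), c x) = (true, false)) =
          (Finset.univ.filter fun x => c (w⁻¹ x) = true ∧ ¬ c x = true) := by
        ext x
        simp only [Finset.mem_filter, Finset.mem_univ, true_and, Prod.mk.injEq, Bool.not_eq_true]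
      rw [e1, e2, h4]
    · congr 1
      ext x
      simp only [Finset.mem_filter, Finset.mem_univ, true_and, Prod.mk.injEq]
      exact and_comm)
  exact ⟨s, fun x => ⟨congrArg Prod.fst (hs x), congrArg Prod.snd (hs x)⟩⟩

theorem selfInv {M : CoxeterMatrix (Fin n)} (cs : CoxeterSystem M (Equiv.Perm (Fin (n + 1)))) (hcs : cs.simple = adj n) (i : Fin n) :
    SelfInv cs ({i}ᶜ : Set (Fin n)) := by
  have hW : WJ cs ({i}ᶜ : Set (Fin n)) = Yg (fun x : Fin (n + 1) => decide (x.val ≤ i.val)) := by
    rw [← YJ_compl]
    unfold WJ YJ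
    rw [hcs]
  intro w
  obtain ⟨s, hs⟩ := exists_swap (fun x : Fin (n + 1) => decide (x.val ≤ i.val)) w
  rw [hW]
  refine ⟨(s * w)⁻¹, inv_mem ?_, w⁻¹ * s, ?_, by group⟩
  · intro x
    have h1 := (hs (w x)).1
    rw [ia] at h1
    exact h1
  · intro x
    exact (hs x).2

/-- the diagram automorphisms of odd order are trivial -/
theorem aut_odd {σ : Equiv.Perm (Fin n)} (hσ : σ ∈ autM (cA n)) (hodd : Odd (orderOf σ)) (i : Fin n) : σ i = i := by
  have hadj : ∀ a b : Fin n, (a.val + 1 = b.val ∨ b.val + 1 = a.val) →
      ((σ a).val + 1 = (σ b).val ∨ (σ b).val + 1 = (σ a).val) := by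
    intro a b hab
    have h1 := hσ a b
    rw [cA_apply, cA_apply] at h1
    unfold Cfsg.Agent.LieRecognition.CoxClass.mA at h1
    have hne : ¬ a.val = b.val := by omega
    rw [if_neg hne, if_pos hab] at h1
    by_contra hcon
    rw [if_neg hcon] at h1
    split_ifs at h1 <;> omega
  have hadj' : ∀ a b : Fin n, ((σ a).val + 1 = (σ b).val ∨ (σ b).val + 1 = (σ a).val) →
      (a.val + 1 = b.val ∨ b.val + 1 = a.val) := by
    intro a b hab
    have h1 := hσ a b
    rw [cA_apply, cA_apply] at h1
    unfold Cfsg.Agent.LieRecognition.CoxClass.mA at h1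
    have hne : ¬ (σ a).val = (σ b).val := by omega
    rw [if_neg hne, if_pos hab] at h1
    by_contra hcon
    rw [if_neg hcon] at h1
    split_ifs at h1 <;> omega
  have hn : 0 < n := lt_of_le_of_lt (Nat.zero_le _) i.2
  have hend : ∀ e : Fin n, (e.val = 0 ∨ e.val + 1 = n) → ((σ e).val = 0 ∨ (σ e).val + 1 = n) := by
    intro e he
    by_contra hcon
    have hk := (σ e).2
    set k := (σ e).val with hkdef
    have h1 := hadj' e (σ⁻¹ ⟨k - 1, by omega⟩) (by rw [ai]; simp only; omega)
    have h2 := hadj' e (σ⁻¹ ⟨k + 1, by omega⟩) (by rw [ai]; simp only; omega)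
    have h3 := (σ⁻¹ (⟨k - 1, by omega⟩ : Fin n)).2
    have h4 := (σ⁻¹ (⟨k + 1, by omega⟩ : Fin n)).2
    have h5 : σ⁻¹ (⟨k - 1, by omega⟩ : Fin n) = σ⁻¹ ⟨k + 1, by omega⟩ := Fin.ext (by omega)
    have h6 := congrArg Fin.val ((σ⁻¹).injective h5)
    simp only at h6
    omega
  have h0 : σ ⟨0, hn⟩ = ⟨0, hn⟩ := by
    by_contra hne
    have hl : (σ ⟨0, hn⟩).val + 1 = n := by
      rcases hend ⟨0, hn⟩ (Or.inl rfl) with h | h
      · exact absurd (Fin.ext h) hne
      · exact h
    have hl2 : (σ (σ ⟨0, hn⟩)).val = 0 := by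
      rcases hend (σ ⟨0, hn⟩) (Or.inr hl) with h | h
      · exact h
      · exact absurd (σ.injective (Fin.ext (by omega) : σ (σ ⟨0, hn⟩) = σ ⟨0, hn⟩)) hne
    have h2 : (σ ^ 2) ⟨0, hn⟩ = ⟨0, hn⟩ := by
      rw [pow_two, Equiv.Perm.mul_apply]
      exact Fin.ext hl2
    obtain ⟨k, hk⟩ := hodd
    have h3 : (σ ^ (2 * k)) ⟨0, hn⟩ = ⟨0, hn⟩ := by
      rw [pow_mul]
      clear hk
      induction k with
      | zero => rfl
      | succ k ih => rw [pow_succ, Equiv.Perm.mul_apply, h2, ih]
    have h4 : (σ ^ (2 * k + 1)) ⟨0, hn⟩ = ⟨0, hn⟩ := by rw [← hk, pow_orderOf_eq_one]; rfl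
    rw [pow_succ', Equiv.Perm.mul_apply, h3] at h4
    exact hne h4
  have key : ∀ m : ℕ, ∀ (hm : m < n), σ ⟨m, hm⟩ = ⟨m, hm⟩ := by
    intro m
    induction m using Nat.strong_induction_on with
    | _ m ih =>
      intro hm
      rcases Nat.eq_zero_or_pos m with rfl | hpos
      · exact h0
      · have h1 := ih (m - 1) (by omega) (by omega)
        have h2 := hadj ⟨m - 1, by omega⟩ ⟨m, hm⟩ (Or.inl (by simp only; omega))
        rw [h1] at h2
        simp only at h2
        apply Fin.ext
        simp only
        rcases h2 with h2 | h2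
        · omega
        · exfalso
          have h3 := ih (m - 2) (by omega) (by omega)
          have h4 : σ ⟨m, hm⟩ = σ ⟨m - 2, by omega⟩ := by
            rw [h3]; exact Fin.ext (by simp only; omega)
          have h5 := congrArg Fin.val (σ.injective h4)
          simp only at h5
          omega
  exact key i.val i.2

end Cfsg.Agent.H565.RV.TypeA
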