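import Cfsg.Agent.H976.OddM.ParE6
import Cfsg.Agent.H565.RV.Own

/-!
# TEAM RV, row `NRow` in the own odd characteristic: type `E₆` (helper565)

The parabolic subgroups of odd index of `W(E₆)` are contained in a `W(D₅)`; the three double cosets of `W(D₅)` are
self-inverse; the diagram automorphisms of odd order are trivial.
-/

set_option autoImplicit false
set_option linter.style.longLine false

namespace Cfsg.Agent.H565.RV.E6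

open Cfsg.Agent.Tits.Core Cfsg.Agent.H976.OddM.ParE6 Cfsg.Agent.H454.PiBS

def trA : List (List (Fin 6)) := [[], [0], [2, 0], [3, 2, 0], [1, 3, 2, 0], [4, 3, 2, 0], [4, 1, 3, 2, 0], [5, 4, 3, 2, 0], [3, 4, 1, 3, 2, 0], [5, 4, 1, 3, 2, 0], [2, 3, 4, 1, 3, 2, 0], [5, 3, 4, 1, 3, 2, 0], [0, 2, 3, 4, 1, 3, 2, 0], [5, 2, 3, 4, 1, 3, 2, 0], [4, 5, 3, 4, 1, 3, 2, 0], [5, 0, 2, 3, 4, 1, 3, 2, 0], [4, 5, 2, 3, 4, 1, 3, 2, 0], [4, 5, 0, 2, 3, 4, 1, 3, 2, 0], [3, 4, 5, 2, 3, 4, 1, 3, 2, 0], [3, 4, 5, 0, 2, 3, 4, 1, 3, 2, 0], [1, 3, 4, 5, 2, 3, 4, 1, 3, 2, 0], [1, 3, 4, 5, 0, 2, 3, 4, 1, 3, 2, 0], [2, 3, 4, 5, 0, 2, 3, 4, 1, 3, 2, 0], [2, 1, 3, 4, 5, 0, 2, 3, 4, 1, 3, 2, 0], [3, 2, 1, 3, 4, 5, 0, 2, 3, 4, 1, 3, 2, 0], [4, 3, 2, 1, 3, 4, 5, 0, 2, 3, 4, 1, 3, 2, 0], [5, 4, 3, 2, 1, 3, 4, 5, 0, 2, 3, 4, 1, 3, 2, 0]]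

def labA : List (Fin 3) := [0, 1, 1, 1, 1, 1, 1, 1, 1, 1, 1, 1, 2, 1, 1, 2, 1, 2, 1, 2, 1, 2, 2, 2, 2, 2, 2]

def repsA : List (Fin 27) := [0, 1, 12]

def wdA : List (List (Fin 6)) := [[], [], [2], [3, 2], [1, 3, 2], [4, 3, 2], [4, 1, 3, 2], [5, 4, 3, 2], [3, 4, 1, 3, 2], [5, 4, 1, 3, 2], [2, 3, 4, 1, 3, 2], [5, 3, 4, 1, 3, 2], [], [5, 2, 3, 4, 1, 3, 2], [4, 5, 3, 4, 1, 3, 2], [5], [4, 5, 2, 3, 4, 1, 3, 2], [4, 5], [3, 4, 5, 2, 3, 4, 1, 3, 2], [3, 4, 5], [1, 3, 4, 5, 2, 3, 4, 1, 3, 2], [1, 3, 4, 5], [2, 3, 4, 5], [2, 1, 3, 4, 5], [3, 2, 1, 3, 4, 5], [4, 3, 2, 1, 3, 4, 5], [5, 4, 3, 2, 1, 3, 4, 5]]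

def trB : List (List (Fin 6)) := [[0, 2, 3, 4, 5, 1, 3, 4, 2, 3, 0, 2, 1, 3, 4, 5], [2, 3, 4, 5, 1, 3, 4, 2, 3, 0, 2, 1, 3, 4, 5], [3, 4, 5, 1, 3, 4, 2, 3, 0, 2, 1, 3, 4, 5], [4, 5, 1, 3, 4, 2, 3, 0, 2, 1, 3, 4, 5], [4, 5, 3, 4, 2, 3, 0, 2, 1, 3, 4, 5], [5, 1, 3, 4, 2, 3, 0, 2, 1, 3, 4, 5], [5, 3, 4, 2, 3, 0, 2, 1, 3, 4, 5], [1, 3, 4, 2, 3, 0, 2, 1, 3, 4, 5], [5, 4, 2, 3, 0, 2, 1, 3, 4, 5], [3, 4, 2, 3, 0, 2, 1, 3, 4, 5], [5, 4, 3, 0, 2, 1, 3, 4, 5], [4, 2, 3, 0, 2, 1, 3, 4, 5], [5, 4, 3, 2, 1, 3, 4, 5], [4, 3, 0, 2, 1, 3, 4, 5], [2, 3, 0, 2, 1, 3, 4, 5], [4, 3, 2, 1, 3, 4, 5], [3, 0, 2, 1, 3, 4, 5], [3, 2, 1, 3, 4, 5], [0, 2, 1, 3, 4, 5], [2, 1, 3, 4, 5], [0, 2, 3, 4, 5], [2, 3, 4, 5], [1, 3, 4, 5], [3, 4, 5], [4, 5], [5], []]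

def labB : List (Fin 3) := [0, 0, 0, 0, 0, 0, 0, 1, 0, 1, 0, 1, 0, 1, 1, 1, 1, 1, 1, 1, 1, 1, 1, 1, 1, 1, 2]

def repsB : List (Fin 27) := [0, 7, 26]

def wdB : List (List (Fin 6)) := [[], [0], [2, 0], [3, 2, 0], [1, 3, 2, 0], [4, 3, 2, 0], [4, 1, 3, 2, 0], [], [3, 4, 1, 3, 2, 0], [1], [2, 3, 4, 1, 3, 2, 0], [3, 1], [0, 2, 3, 4, 1, 3, 2, 0], [2, 3, 1], [4, 3, 1], [0, 2, 3, 1], [4, 2, 3, 1], [4, 0, 2, 3, 1], [3, 4, 2, 3, 1], [3, 4, 0, 2, 3, 1], [1, 3, 4, 2, 3, 1], [1, 3, 4, 0, 2, 3, 1], [2, 3, 4, 0, 2, 3, 1], [2, 1, 3, 4, 0, 2, 3, 1], [3, 2, 1, 3, 4, 0, 2, 3, 1], [4, 3, 2, 1, 3, 4, 0, 2, 3, 1], []]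

structure Tab (p : Fin 27) (JL : List (Fin 6)) (tr : List (List (Fin 6))) (lab : List (Fin 3)) (reps : List (Fin 27))
    (wd : List (List (Fin 6))) : Prop where
  fix : ∀ j ∈ JL, tb j p = p
  inv : ∀ j ∈ JL, ∀ x, lab.getD (tb j x).val 0 = lab.getD x.val 0
  mem : ∀ x : Fin 27, ∀ j ∈ wd.getD x.val [], j ∈ JL
  eq : ∀ x : Fin 27, (wd.getD x.val []).foldr tb (reps.getD (lab.getD x.val 0).val 0) = x
  tr_eq : ∀ x : Fin 27, (tr.getD x.val []).foldr tb p = x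
  rev : ∀ x : Fin 27, lab.getD ((tr.getD x.val []).reverse.foldr tb p).val 0 = lab.getD x.val 0

theorem tabA : Tab 0 [1, 2, 3, 4, 5] trA labA repsA wdA := by constructor <;> decide +kernel

theorem tabB : Tab 26 [0, 1, 2, 3, 4] trB labB repsB wdB := by constructor <;> decide +kernel

variable {W : Type*} [Group W] (cs : CoxeterSystem CoxeterMatrix.E₆ W)

theorem exists_word_inv : ∀ ω : List (Fin 6), ∃ w : W, (∀ x, phi cs w x = ω.foldr tb x) ∧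
    ∀ x, phi cs w⁻¹ x = ω.reverse.foldr tb x
  | [] => ⟨1, fun x => by rw [map_one]; rfl, fun x => by rw [inv_one, map_one]; rfl⟩
  | j :: ω => by
    obtain ⟨w, h1, h2⟩ := exists_word_inv ω
    refine ⟨cs.simple j * w, fun x => ?_, fun x => ?_⟩
    · rw [map_mul, Equiv.Perm.mul_apply, h1, phi_simple, List.foldr_cons]
    · rw [mul_inv_rev, cs.inv_simple, map_mul, Equiv.Perm.mul_apply, phi_simple, h2, List.reverse_cons,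
        List.foldr_append]
      rfl

theorem selfInv_of_tab [Finite W] {p : Fin 27} {JL : List (Fin 6)} {tr : List (List (Fin 6))} {lab : List (Fin 3)}
    {reps : List (Fin 27)} {wd : List (List (Fin 6))} (T : Tab p JL tr lab reps wd)
    (hcard : Nat.card (WJ cs {j | j ∈ JL}) = 1920) : SelfInv cs {j | j ∈ JL} := by
  have hst := WJ_eq_stab cs (p := p) (J := {j | j ∈ JL}) T.fix hcard
  have hmem : ∀ w, w ∈ WJ cs {j | j ∈ JL} ↔ phi cs w p = p := fun w => by rw [hst]; rfl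
  have hlab : ∀ w ∈ WJ cs {j | j ∈ JL}, ∀ x, lab.getD (phi cs w x).val 0 = lab.getD x.val 0 := fun w hw =>
    inv_eq cs (fun x : Fin 27 => lab.getD x.val 0) T.inv hw
  have horb : ∀ x y : Fin 27, lab.getD x.val 0 = lab.getD y.val 0 → ∃ a ∈ WJ cs {j | j ∈ JL}, phi cs a x = y := by
    intro x y h
    obtain ⟨a, ha, h1⟩ := exists_word cs (K := {j | j ∈ JL}) (wd.getD x.val []) (T.mem x)
    obtain ⟨b, hb, h2⟩ := exists_word cs (K := {j | j ∈ JL}) (wd.getD y.val []) (T.mem y)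
    have h3 : phi cs a (reps.getD (lab.getD x.val 0).val 0) = x := by rw [h1, T.eq]
    have h4 : phi cs b (reps.getD (lab.getD y.val 0).val 0) = y := by rw [h2, T.eq]
    refine ⟨b * a⁻¹, mul_mem hb (inv_mem ha), ?_⟩
    have h5 : phi cs a⁻¹ x = reps.getD (lab.getD x.val 0).val 0 := by
      conv_lhs => rw [← h3]
      rw [← Equiv.Perm.mul_apply, ← map_mul, inv_mul_cancel, map_one]
      rfl
    rw [map_mul, Equiv.Perm.mul_apply, h5, h, h4]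
  intro w
  obtain ⟨v, hv1, hv2⟩ := exists_word_inv cs (tr.getD (phi cs w p).val [])
  have h1 : phi cs v p = phi cs w p := by rw [hv1, T.tr_eq]
  -- `w = v b`
  have hb : v⁻¹ * w ∈ WJ cs {j | j ∈ JL} := by
    rw [hmem, map_mul, Equiv.Perm.mul_apply, ← h1, ← Equiv.Perm.mul_apply, ← map_mul, inv_mul_cancel, map_one]
    rfl
  have h2 : lab.getD (phi cs w⁻¹ p).val 0 = lab.getD (phi cs w p).val 0 := by
    have h3 : w⁻¹ = (v⁻¹ * w)⁻¹ * v⁻¹ := by group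
    rw [h3, map_mul, Equiv.Perm.mul_apply, hlab _ (inv_mem hb), hv2, T.rev]
  obtain ⟨a, ha, h3⟩ := horb _ _ h2.symm
  refine ⟨a, ha, w⁻¹ * a⁻¹ * w⁻¹, ?_, by group⟩
  rw [hmem, map_mul, map_mul, Equiv.Perm.mul_apply, Equiv.Perm.mul_apply, ← h3, ← Equiv.Perm.mul_apply (phi cs a⁻¹),
    ← map_mul, inv_mul_cancel, map_one, Equiv.Perm.one_apply, ← Equiv.Perm.mul_apply, ← map_mul, inv_mul_cancel, map_one]
  rfl

def EM (i j : Fin 6) : ℕ := CoxeterMatrix.E₆ i j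

def vv (a b c d e f : Fin 6) (i : Fin 6) : Fin 6 := ([a,b,c,d,e,f] : List (Fin 6)).getD i.val 0

theorem aut_aux : ∀ a0 a1 : Fin 6, EM a0 a1 = EM 0 1 → ∀ a2, EM a0 a2 = EM 0 2 → EM a1 a2 = EM 1 2 →
    ∀ a3, EM a0 a3 = EM 0 3 → EM a1 a3 = EM 1 3 → EM a2 a3 = EM 2 3 →
    ∀ a4, EM a0 a4 = EM 0 4 → EM a1 a4 = EM 1 4 → EM a2 a4 = EM 2 4 → EM a3 a4 = EM 3 4 →
    ∀ a5, EM a0 a5 = EM 0 5 → EM a1 a5 = EM 1 5 → EM a2 a5 = EM 2 5 → EM a3 a5 = EM 3 5 → EM a4 a5 = EM 4 5 →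
    ∀ i, vv a0 a1 a2 a3 a4 a5 (vv a0 a1 a2 a3 a4 a5 i) = i := by
  decide +kernel

theorem aut_sq (σ : Equiv.Perm (Fin 6)) (h : ∀ i j, CoxeterMatrix.E₆ (σ i) (σ j) = CoxeterMatrix.E₆ i j) :
    σ * σ = 1 := by
  have hv : ∀ i, vv (σ 0) (σ 1) (σ 2) (σ 3) (σ 4) (σ 5) i = σ i := by
    intro i
    fin_cases i <;> rfl
  have h1 := aut_aux (σ 0) (σ 1) (h 0 1) (σ 2) (h 0 2) (h 1 2) (σ 3) (h 0 3) (h 1 3) (h 2 3)
    (σ 4) (h 0 4) (h 1 4) (h 2 4) (h 3 4) (σ 5) (h 0 5) (h 1 5) (h 2 5) (h 3 5) (h 4 5)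
  ext i
  have h2 := h1 i
  rw [hv, hv] at h2
  exact congrArg Fin.val h2

theorem tyOK [Finite W] : TyOK cs := by
  intro J hJ hodd
  have hsub : ∀ (L : List (Fin 6)) (i : Fin 6), i ∉ J → (∀ j, j ∉ L → j = i) → J ⊆ {j | j ∈ L} := by
    intro L i hi hL j hj
    by_contra h
    rw [hL j h] at hj
    exact hi hj
  have hno : ∀ {L : List (Fin 6)} {m : ℕ}, Nat.card (WJ cs {j | j ∈ L}) = m → ¬ 128 ∣ m → ¬ J ⊆ {j | j ∈ L} :=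
    fun h1 h2 h3 => Nat.not_even_iff_odd.2 hodd (even_of_le cs h3 h1 h2)
  have hσ : ∀ σ ∈ autM CoxeterMatrix.E₆, Odd (orderOf σ) → ∀ i, σ i = i := by
    intro σ hσ hod i
    have h1 := aut_sq σ hσ
    have h2 : σ = 1 := eq_one_of_sq hod h1
    rw [h2]; rfl
  by_cases h1 : (1 : Fin 6) ∈ J
  swap
  · exact absurd (hsub _ 1 h1 (by decide)) (hno (card_b5 cs) (by decide))
  by_cases h2 : (2 : Fin 6) ∈ J
  swap
  · exact absurd (hsub _ 2 h2 (by decide)) (hno (card_c5 cs) (by decide))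
  by_cases h3 : (3 : Fin 6) ∈ J
  swap
  · exact absurd (hsub _ 3 h3 (by decide)) (hno (card_d5 cs) (by decide))
  by_cases h4 : (4 : Fin 6) ∈ J
  swap
  · exact absurd (hsub _ 4 h4 (by decide)) (hno (card_e5 cs) (by decide))
  by_cases h0 : (0 : Fin 6) ∈ J
  · by_cases h5 : (5 : Fin 6) ∈ J
    · exfalso
      apply hJ
      rw [Set.eq_univ_iff_forall]
      intro j
      fin_cases j <;> assumption
    · refine ⟨5, h5, ?_, fun σ h h' => hσ σ h h' 5⟩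
      have e : ({5}ᶜ : Set (Fin 6)) = {j | j ∈ ([0, 1, 2, 3, 4] : List (Fin 6))} := by
        ext j
        revert j
        change ∀ j : Fin 6, ¬ j = 5 ↔ j ∈ ([0, 1, 2, 3, 4] : List (Fin 6))
        decide
      rw [e]
      exact selfInv_of_tab cs tabB (card_5x cs)
  · refine ⟨0, h0, ?_, fun σ h h' => hσ σ h h' 0⟩
    have e : ({0}ᶜ : Set (Fin 6)) = {j | j ∈ ([1, 2, 3, 4, 5] : List (Fin 6))} := by
      ext j
      revert j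
      change ∀ j : Fin 6, ¬ j = 0 ↔ j ∈ ([1, 2, 3, 4, 5] : List (Fin 6))
      decide
    rw [e]
    exact selfInv_of_tab cs tabA (card_5 cs)

end Cfsg.Agent.H565.RV.E6
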