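import Cfsg.Agent.H565.RV.EvenIdx
import Cfsg.Agent.H565.RV.OwnA
import Cfsg.Agent.H565.RV.OwnE6
import Cfsg.Agent.H519.LieRank
import Cfsg.Agent.FixOdd.TwOf
import Cfsg.Agent.FixBN.ReeSplit
import Cfsg.Agent.Tits.Labels

/-!
# TEAM RV, row `NRow` in the own odd characteristic (helper565)

`nRow_own` : `S` a finite simple group of Lie type in the odd characteristic `p`, `2, p ∈ π`: `NRow π S`.
-/

set_option autoImplicit false

namespace Cfsg.Agent.H565.RV

open Cfsg Cfsg.Agent.FixBN Cfsg.Agent.Tits.Core Cfsg.Agent.Tits.OfBN Cfsg.Agent.Schreier.BNSch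
open Cfsg.Agent.Omega.ML.Ex.Typ Cfsg.Agent.LieRecognition.BNCox
open Cfsg.Agent.H165.RV Cfsg.Agent.LieRecognition.ReeAbs Cfsg.Agent.LieRecognition.ReeSylowThree
open Cfsg.Agent

/-! ### transfer between Coxeter systems of the same type -/

section congr

variable {I : Type*} {M : CoxeterMatrix I} {W W' : Type*} [Group W] [Group W'] (cs : CoxeterSystem M W)
  (cs' : CoxeterSystem M W')

/-- the isomorphism of the Coxeter groups -/
noncomputable def isoW : W ≃* W' := cs.mulEquiv.trans cs'.mulEquiv.symm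

theorem isoW_simple (i : I) : isoW cs cs' (cs.simple i) = cs'.simple i := by
  unfold isoW
  rw [MulEquiv.trans_apply, MulEquiv.symm_apply_eq]
  have h1 : cs.mulEquiv (cs.simple i) = M.simple i := cs.mulEquiv.apply_symm_apply _
  have h2 : cs'.mulEquiv (cs'.simple i) = M.simple i := cs'.mulEquiv.apply_symm_apply _
  rw [h1, h2]

theorem map_WJ (J : Set I) : (WJ cs J).map (isoW cs cs').toMonoidHom = WJ cs' J := by
  unfold WJ
  rw [MonoidHom.map_closure, ← Set.image_comp]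
  congr 1
  exact Set.image_congr fun i _ => isoW_simple cs cs' i

theorem index_WJ (J : Set I) : (WJ cs J).index = (WJ cs' J).index := by
  rw [← map_WJ cs cs' J]
  exact (Subgroup.index_map_equiv (WJ cs J) (isoW cs cs')).symm

theorem SelfInv.congr {J : Set I} (h : SelfInv cs J) : SelfInv cs' J := by
  intro w
  obtain ⟨a, ha, b, hb, hab⟩ := h ((isoW cs cs').symm w)
  refine ⟨isoW cs cs' a, ?_, isoW cs cs' b, ?_, ?_⟩
  · rw [← map_WJ cs cs' J]; exact ⟨a, ha, rfl⟩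
  · rw [← map_WJ cs cs' J]; exact ⟨b, hb, rfl⟩
  · apply (isoW cs cs').symm.injective
    rw [map_inv, hab, map_mul, map_mul, MulEquiv.symm_apply_apply, MulEquiv.symm_apply_apply]

theorem TyOK.congr (h : TyOK cs) : TyOK cs' := by
  intro J hJ hodd
  rw [← index_WJ cs cs'] at hodd
  obtain ⟨i, hi, h1, h2⟩ := h J hJ hodd
  exact ⟨i, hi, SelfInv.congr cs cs' h1, h2⟩

theorem tyOK_of_even (h : EvenIdx M) : TyOK cs := by
  intro J hJ hodd
  rw [index_WJ cs M.toCoxeterSystem] at hodd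
  exact absurd (h J hJ) (Nat.not_even_iff_odd.2 hodd)

end congr

/-! ### the row of a split (B,N)-pair -/

/-- the condition on the type -/
def TyOKM {I : Type*} (M : CoxeterMatrix I) : Prop := Finite M.Group → TyOK M.toCoxeterSystem

theorem TyOKM.of_even {I : Type*} {M : CoxeterMatrix I} (h : Finite M.Group → EvenIdx M) : TyOKM M :=
  fun hf => tyOK_of_even _ (h hf)

theorem nRow_of_splitT {G : Type*} [Group G] [Finite G] [IsSimpleGroup G] {I : Type*} [Nonempty I]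
    {M : CoxeterMatrix I} {p : ℕ} [hp : Fact p.Prime] (hp2 : p ≠ 2) (hG : HasSplitT p M G) (hE : TyOKM M)
    {π : Set ℕ} (h2 : 2 ∈ π) (hpi : p ∈ π) : NRow π G := by
  intro H hH
  obtain ⟨P, U, e, hs, hN, cs, hcs⟩ := hG
  have hI : Finite I := FixBN.OfBN.finite_I e
  have hth := thick P e cs hcs
  let S := FixBN.OfBN.sys e cs hcs hs
  have hW : Finite (WP P) := inferInstanceAs (Finite (P.N ⧸ (P.B ⊓ P.N).subgroupOf P.N))
  have hMf : Finite M.Group := Finite.of_equiv _ cs.mulEquiv.toEquiv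
  have hty : TyOK cs := TyOK.congr M.toCoxeterSystem cs (hE hMf)
  obtain ⟨i0⟩ := ‹Nonempty I›
  obtain ⟨x, -⟩ := S.exists_fix ⊥ IsPGroup.of_bot
  have hne : S.U x ≠ ⊥ := by
    intro h
    obtain ⟨y, z, hyz, hy, hz⟩ := hth x i0
    obtain ⟨u, hu, huz⟩ := S.exists_move (hy.trans hz.symm)
    rw [h, Subgroup.mem_bot] at hu
    rw [hu, one_smul] at huz
    exact hyz huz
  have hgen : ∀ K : Subgroup G, (∀ y, S.U y ≤ K) → K = ⊤ := by
    intro K hK
    set N : Subgroup G := ⨆ y, S.U y with hN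
    have hNn : N.Normal := by
      refine ⟨fun n hn g => ?_⟩
      have h1 : N ≤ N.comap (MulAut.conj g).toMonoidHom := by
        refine iSup_le fun y u hu => ?_
        rw [Subgroup.mem_comap]
        exact (le_iSup (fun y => S.U y) (g • y)) (S.conj_mem_U hu g)
      exact h1 hn
    have h2 : N ≤ K := iSup_le hK
    rcases hNn.eq_bot_or_eq_top with h | h
    · exact absurd (le_bot_iff.1 (h ▸ le_iSup (fun y => S.U y) x)) hne
    · exact top_le_iff.1 (h ▸ h2)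
  exact nAt_of_type S hp2 hth hgen h2 hpi hty (fun τ => FixOdd.exists_tw hs e cs hcs τ) hH

theorem nRow_of_rgdt {G : Type*} [Group G] [Finite G] [IsSimpleGroup G] {l : ℕ} (hl : 0 < l)
    {M : CoxeterMatrix (Fin l)} {p : ℕ} [hp : Fact p.Prime] (hp2 : p ≠ 2) (hG : HasRGDT p M G) (hE : TyOKM M)
    {π : Set ℕ} (h2 : 2 ∈ π) (hpi : p ∈ π) : NRow π G := by
  have : Nonempty (Fin l) := ⟨⟨0, hl⟩⟩
  exact nRow_of_splitT hp2 (hG.hasSplitT hp.out hl) hE h2 hpi

/-! ### the types -/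

theorem tyOKM_A (n : ℕ) : TyOKM (cA n) := by
  rw [Cfsg.Agent.Nodes.RootsA.cA_eq]
  intro _
  obtain ⟨cs, hcs⟩ := Cfsg.Agent.S2530.result n
  refine TyOK.congr cs _ fun J hJ _ => ?_
  obtain ⟨i, hi⟩ := (Set.ne_univ_iff_exists_notMem _).1 hJ
  refine ⟨i, hi, TypeA.selfInv cs (funext hcs) i, fun σ hσ h => ?_⟩
  rw [← Cfsg.Agent.Nodes.RootsA.cA_eq] at hσ
  exact TypeA.aut_odd hσ h i

theorem tyOKM_E6 : TyOKM CoxeterMatrix.E₆ := by
  intro hf
  have : Finite CoxeterMatrix.E₆.Group := hf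
  exact E6.tyOK _

theorem tyOKM_B (n : ℕ) : TyOKM (CoxeterMatrix.B n) := TyOKM.of_even fun _ => evenIdx_B

theorem tyOKM_D {n : ℕ} (hn : 1 ≤ n) : TyOKM (Nodes.TypeD.M n) := TyOKM.of_even fun _ => evenIdx_TypeD hn

theorem tyOKM_E7 : TyOKM CoxeterMatrix.E₇ := TyOKM.of_even fun _ => evenIdx_E7

theorem tyOKM_E8 : TyOKM CoxeterMatrix.E₈ := TyOKM.of_even fun _ => evenIdx_E8

theorem tyOKM_F4 : TyOKM CoxeterMatrix.F₄ := TyOKM.of_even fun _ => evenIdx_F4

theorem tyOKM_G2 : TyOKM CoxeterMatrix.G₂ := TyOKM.of_even fun _ => evenIdx_G2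

/-! ### the Ree groups -/

/-- a (B,N)-pair with one distinguished generator has type `B 1` (helper892) -/
theorem splitT_of_single {p : ℕ} {K : Type*} [Group K] (P : Cfsg.BNPair K) (U : Subgroup K) {s : K}
    (hS : P.S = {s}) (h : Split P p U) : HasSplitT p (CoxeterMatrix.B 1) K := by
  obtain ⟨M, hM⟩ := Tits.Labels.exists_bnType P
  have hu : Unique P.S := by
    rw [hS]
    infer_instance
  let f : P.S ≃ Fin 1 := Equiv.ofUnique _ _
  have h1 := Tits.Labels.bnType_reindex hM f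
  have h2 : M.reindex f = CoxeterMatrix.B 1 := by
    ext i j
    have hi : i = j := Subsingleton.elim _ _
    subst hi
    rw [CoxeterMatrix.diagonal, CoxeterMatrix.diagonal]
  rw [h2] at h1
  exact ⟨P, U, _, h, h1⟩

theorem splitT_of_equiv {p : ℕ} {K L : Type*} [Group K] [Group L] (e : K ≃* L) (P : Cfsg.BNPair K)
    (U : Subgroup K) {s : K} (hS : P.S = {s}) (h : Split P p U) :
    HasSplitT p (CoxeterMatrix.B 1) L := by
  refine splitT_of_single (Transport.mapBN e P) (U.map e.toMonoidHom) (s := e s) ?_ (Transport.split e P h)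
  change e '' P.S = {e s}
  rw [hS, Set.image_singleton]

theorem nRow_ree {G : Type*} [Group G] [Finite G] [IsSimpleGroup G] (h : Lie.IsoRee G) {π : Set ℕ} (h2 : 2 ∈ π)
    (h3 : 3 ∈ π) : NRow π G := by
  obtain ⟨K, i1, i2, m, hm, hK, ⟨e⟩⟩ := h
  have : Fact (Nat.Prime 3) := ⟨Nat.prime_three⟩
  obtain ⟨U, h, n, D⟩ := Cfsg.Agent.ChevalleyStructure.Ree.Data.exists_data hK
  have hT : HasSplitT 3 (CoxeterMatrix.B 1) G :=
    splitT_of_equiv e.symm (ReeSplit.bnPair D) (uSub D) (s := n) rfl (ReeSplit.split hK D)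
  exact nRow_of_splitT (by norm_num) hT (tyOKM_B 1) h2 h3

/-! ### all the groups -/

/-- **`NRow` in the own odd characteristic.** -/
theorem nRow_own {p : ℕ} (hp2 : p ≠ 2) {G : Type*} [Group G] [Finite G] [IsSimpleGroup G] (hG : IsLieTypeChar p G)
    {π : Set ℕ} (h2 : 2 ∈ π) (hpi : p ∈ π) : NRow π G := by
  rcases hG with h | h | h | h | h | h | h | h | h | h | h
  · have hp : Fact p.Prime := by
      obtain ⟨F, _, _, _, -⟩ := h
      exact ⟨CharP.char_is_prime F p⟩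
    obtain ⟨n, hn, h⟩ := typ_of_PSL h
    exact nRow_of_rgdt (by omega) hp2 h (tyOKM_A n) h2 hpi
  · obtain ⟨F, _, _, _, m, hm, -, ⟨e⟩⟩ := h
    have hp : Fact p.Prime := ⟨CharP.char_is_prime F p⟩
    exact nRow_of_rgdt (by omega) hp2 ((typ_PSp (by omega)).of_equiv e.symm) (tyOKM_B m) h2 hpi
  · obtain ⟨F, _, _, _, n, q, hF, hn, -, ⟨e⟩⟩ := h
    have hp : Fact p.Prime := ⟨CharP.char_is_prime F p⟩
    obtain ⟨m, hm, h⟩ := typ_PSU (p := p) hF hn
    exact nRow_of_rgdt (by omega) hp2 (h.of_equiv e.symm) (tyOKM_B m) h2 hpi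
  · obtain ⟨F, i1, i2, i3, m, hm, hodd, ⟨e⟩⟩ := h
    have hp : Fact p.Prime := ⟨CharP.char_is_prime F p⟩
    have h2' : (2 : F) ≠ 0 := by
      intro h2
      have h3 : CharP F 2 := CharTwo.of_one_ne_zero_of_two_eq_zero one_ne_zero h2
      exact hp2 (CharP.eq F i3 h3)
    exact nRow_of_rgdt (by omega) hp2 ((H519.LieRank.typ_PO_odd h2' (by omega)).of_equiv e.symm) (tyOKM_B m) h2 hpi
  · obtain ⟨F, i1, i2, i3, m, hm, ⟨e⟩⟩ := h
    have hp : Fact p.Prime := ⟨CharP.char_is_prime F p⟩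
    obtain ⟨n, rfl⟩ : ∃ n, m = n + 3 := ⟨m - 3, by omega⟩
    exact nRow_of_rgdt (by omega) hp2 ((typ_PO_plus n).of_equiv e.symm) (tyOKM_D (n := n + 1) (by omega)) h2 hpi
  · obtain ⟨F, i1, i2, i3, m, a, b, hm, hab, ⟨e⟩⟩ := h
    have hp : Fact p.Prime := ⟨CharP.char_is_prime F p⟩
    exact nRow_of_rgdt (by omega) hp2 ((typ_PO_minus hab (by omega)).of_equiv e.symm) (tyOKM_B (m - 1)) h2 hpi
  · have hp : Fact p.Prime := by
      obtain ⟨F, _, _, _, -⟩ := h
      exact ⟨CharP.char_is_prime F p⟩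
    rcases typ_of_exc h with h | h | h | h | h
    · exact nRow_of_rgdt (by omega) hp2 h tyOKM_G2 h2 hpi
    · exact nRow_of_rgdt (by omega) hp2 h tyOKM_F4 h2 hpi
    · exact nRow_of_rgdt (by omega) hp2 h tyOKM_E6 h2 hpi
    · exact nRow_of_rgdt (by omega) hp2 h tyOKM_E7 h2 hpi
    · exact nRow_of_rgdt (by omega) hp2 h tyOKM_E8 h2 hpi
  · obtain ⟨K, _, _, _, q, hq, ⟨hK, ⟨e⟩⟩ | ⟨hK, ⟨e⟩⟩⟩ := h
    · have hp : Fact p.Prime := ⟨CharP.char_is_prime K p⟩
      exact nRow_of_rgdt (by omega) hp2 ((typ_twE6 hq hK p).of_equiv e.symm) tyOKM_F4 h2 hpi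
    · have hp : Fact p.Prime := ⟨CharP.char_is_prime K p⟩
      exact nRow_of_rgdt (by omega) hp2 ((typ_twD4 hq hK p).of_equiv e.symm) tyOKM_G2 h2 hpi
  · exact absurd h.1 hp2
  · exact absurd h.1 hp2
  · obtain ⟨rfl, h⟩ := h
    exact nRow_ree h h2 hpi

end Cfsg.Agent.H565.RV
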