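import Mathlib

/-!
# Elements of order 4 with a 2-dimensional commutator space, and groups of odd order normalised by them

TEAM RV (S2223, S4311), helper565. `Bir ρ y z W`: `y² = z`, `z² = 1`, `z = -1` on the plane `W = [V, z]`, and
`C_V(z) ≤ C_V(y)` (so `y` has the eigenvalues `i, -i` on `W` and is trivial on `C_V(z)`).

* `Bir.rel` : `y v + y z v = v + z v`.
* `Bir.of_commute` : `u` of odd order inverted by `z`, commuting with `y u y⁻¹`: `ρ u = 1`.
* `Bir.core` : the exceptional case of a nonabelian group `⟨u, y u y⁻¹⟩` of class 2: `ω³ = 1`, `dim E = 3`, `W ≤ E`.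
-/

set_option autoImplicit false

namespace Cfsg.Agent.H565.RV

open Module

variable {K : Type*} [Field K] {V : Type*} [AddCommGroup V] [Module K V] {H : Type*} [Group H]

/-- `y² = z`, `z² = 1`, `z = -1` on the plane `W = [V, z]` and `C_V(z) ≤ C_V(y)`. -/
structure Bir (ρ : Representation K H V) (y z : H) (W : Submodule K V) : Prop where
  sq : y * y = z
  inv : z * z = 1
  rank : finrank K W = 2
  neg : ∀ w ∈ W, ρ z w = -w
  fix : ∀ v, ρ z v = v → ρ y v = v
  mem : ∀ v, v - ρ z v ∈ W

section basic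

variable {ρ : Representation K H V}

theorem mul_app (g h : H) (v : V) : ρ (g * h) v = ρ g (ρ h v) := by
  rw [map_mul]; rfl

theorem one_app (v : V) : ρ 1 v = v := by rw [map_one]; rfl

theorem inv_app_app (g : H) (v : V) : ρ g⁻¹ (ρ g v) = v := by
  rw [← mul_app, inv_mul_cancel, one_app]

theorem app_inv_app (g : H) (v : V) : ρ g (ρ g⁻¹ v) = v := by
  rw [← mul_app, mul_inv_cancel, one_app]

theorem app_inj {g : H} {v v' : V} (h : ρ g v = ρ g v') : v = v' := by
  rw [← inv_app_app (ρ := ρ) g v, h, inv_app_app]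

theorem pow_app_eig {u : H} {l : K} {v : V} (h : ρ u v = l • v) (n : ℕ) : ρ (u ^ n) v = l ^ n • v := by
  induction n with
  | zero => rw [pow_zero, pow_zero, one_app, one_smul]
  | succ n ih => rw [pow_succ, mul_app, h, map_smul, ih, smul_smul, pow_succ, mul_comm]

theorem inv_app_eig {u : H} {l : K} {v : V} (h : ρ u v = l • v) (hl : l ≠ 0) : ρ u⁻¹ v = l⁻¹ • v := by
  apply app_inj (ρ := ρ) (g := u)
  rw [app_inv_app, map_smul, h, smul_smul, inv_mul_cancel₀ hl, one_smul]

theorem eig_ne_zero {u : H} {l : K} {v : V} (h : ρ u v = l • v) (hv : v ≠ 0) : l ≠ 0 := by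
  rintro rfl
  rw [zero_smul] at h
  apply hv
  rw [← inv_app_app (ρ := ρ) u v, h, map_zero]

theorem eig_pow_orderOf {u : H} {l : K} {v : V} (h : ρ u v = l • v) (hv : v ≠ 0) {n : ℕ} (hn : u ^ n = 1) :
    l ^ n = 1 := by
  have h1 := pow_app_eig h n
  rw [hn, one_app] at h1
  have h2 : (l ^ n - 1) • v = 0 := by rw [sub_smul, one_smul, ← h1, sub_self]
  rcases smul_eq_zero.1 h2 with h3 | h3
  · exact sub_eq_zero.1 h3
  · exact absurd h3 hv

/-- an eigenvector in an invariant subspace -/
theorem exists_eig [IsAlgClosed K] [FiniteDimensional K V] (f : V →ₗ[K] V) {E : Submodule K V} (hE : E ≠ ⊥)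
    (hf : ∀ v ∈ E, f v ∈ E) : ∃ v ∈ E, v ≠ 0 ∧ ∃ l : K, f v = l • v := by
  have hn : Nontrivial E := Submodule.nontrivial_iff_ne_bot.2 hE
  obtain ⟨l, hl⟩ := Module.End.exists_eigenvalue (f.restrict hf)
  obtain ⟨⟨v, hvE⟩, hv⟩ := hl.exists_hasEigenvector
  refine ⟨v, hvE, ?_, l, ?_⟩
  · intro h0
    exact hv.2 (Subtype.ext h0)
  · have := hv.apply_eq_smul
    have h2 := congrArg Subtype.val this
    exact h2

/-- an element of order prime to the characteristic is semisimple -/
theorem isSemisimple {u : H} {n : ℕ} (hn : u ^ n = 1) (hnK : (n : K) ≠ 0) :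
    Module.End.IsSemisimple (ρ u) := by
  have h1 : Polynomial.aeval (ρ u) (Polynomial.X ^ n - 1 : Polynomial K) = 0 := by
    rw [map_sub, map_one, map_pow, Polynomial.aeval_X, ← map_pow, hn, map_one, sub_self]
  refine Module.End.isSemisimple_of_squarefree_aeval_eq_zero ?_ h1
  have h2 : (Polynomial.X ^ n - 1 : Polynomial K).Separable := by
    have := Polynomial.separable_X_pow_sub_C (F := K) (n := n) 1 hnK one_ne_zero
    rwa [map_one] at this
  exact h2.squarefree

/-- a subspace which is not contained in another one contains an eigenvector outside -/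
theorem exists_eig_not_mem [IsAlgClosed K] [FiniteDimensional K V] {f : Module.End K V}
    (hf : Module.End.IsSemisimple f)
    {E F : Submodule K V} (hE : ∀ v ∈ E, f v ∈ E) (hF : ∀ v ∈ F, f v ∈ F) (hFE : F ≤ E) (hne : ¬ E ≤ F) :
    ∃ v ∈ E, v ∉ F ∧ ∃ l : K, f v = l • v := by
  rw [Module.End.isSemisimple_iff] at hf
  obtain ⟨q, hq, hc⟩ := hf F (fun v hv => hF v hv)
  have hEq : E ⊓ q ≠ ⊥ := by
    intro h0
    apply hne
    intro v hv
    have h1 : v ∈ F ⊔ q := by rw [hc.sup_eq_top]; trivial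
    obtain ⟨x, hx, y, hy, rfl⟩ := Submodule.mem_sup.1 h1
    have h2 : y ∈ E ⊓ q := ⟨by simpa using E.sub_mem hv (hFE hx), hy⟩
    rw [h0, Submodule.mem_bot] at h2
    rw [h2, add_zero]; exact hx
  obtain ⟨v, hv, hv0, l, hl⟩ := exists_eig f hEq (fun v hv => ⟨hE v hv.1, hq hv.2⟩)
  refine ⟨v, hv.1, fun hvF => hv0 ?_, l, hl⟩
  have h3 : v ∈ F ⊓ q := ⟨hvF, hv.2⟩
  rw [hc.inf_eq_bot] at h3
  exact (Submodule.mem_bot K).1 h3

/-- linear independence of eigenvectors, explicit -/
theorem eig_indep {ι : Type*} {f : V →ₗ[K] V} {l : ι → K} (hl : Function.Injective l) {v : ι → V}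
    (hv : ∀ i, v i ≠ 0) (h : ∀ i, f (v i) = l i • v i) : LinearIndependent K v :=
  Module.End.eigenvectors_linearIndependent' f l hl v
    (fun i => ⟨Module.End.mem_eigenspace_iff.2 (h i), hv i⟩)

end basic

namespace Bir

variable {ρ : Representation K H V} {y z : H} {W : Submodule K V}

theorem zy (B : Bir ρ y z W) : z * y = y * z := by
  rw [← B.sq, mul_assoc]

theorem zinv (B : Bir ρ y z W) : z⁻¹ = z := inv_eq_of_mul_eq_one_left B.inv

theorem zz (B : Bir ρ y z W) (v : V) : ρ z (ρ z v) = v := by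
  rw [← mul_app, B.inv, one_app]

theorem rel (B : Bir ρ y z W) (v : V) : ρ y v + ρ y (ρ z v) = v + ρ z v := by
  rw [← map_add]
  apply B.fix
  rw [map_add, B.zz, add_comm]

theorem mem_of_neg (B : Bir ρ y z W) (h2 : (2 : K) ≠ 0) {v : V} (hv : ρ z v = -v) : v ∈ W := by
  have h1 := B.mem v
  rw [hv, sub_neg_eq_add, ← two_smul K] at h1
  exact (W.smul_mem_iff h2).1 h1

theorem finiteDimensional (B : Bir ρ y z W) : FiniteDimensional K W :=
  FiniteDimensional.of_finrank_pos (by rw [B.rank]; norm_num)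

/-- three linearly independent vectors do not fit into `W` -/
theorem not_three (B : Bir ρ y z W) {t : Fin 3 → V} (ht : ∀ i, t i ∈ W) (hi : LinearIndependent K t) : False := by
  have := B.finiteDimensional
  have h1 : LinearIndependent K (fun i => (⟨t i, ht i⟩ : W)) := by
    apply LinearIndependent.of_comp W.subtype
    exact hi
  have h2 := h1.fintype_card_le_finrank
  rw [B.rank, Fintype.card_fin] at h2
  omega

end Bir

end Cfsg.Agent.H565.RV
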