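import Cfsg.Agent.H565.RV.Bir

/-!
# Groups of odd order normalised by a `Bir` element: the local computation

* `weight_sep`
* `Bir.of_commute`
* `Bir.core`
-/

set_option autoImplicit false

namespace Cfsg.Agent.H565.RV

open Module

variable {K : Type*} [Field K] {V : Type*} [AddCommGroup V] [Module K V] {H : Type*} [Group H]

/-- a common eigenvector of two operators is not a sum of common eigenvectors of other weights -/
theorem weight_sep {f g : V →ₗ[K] V} {l m : K} {v : V} (hf : f v = l • v) (hg : g v = m • v) {ι : Type*}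
    (s : Finset ι) (a b : ι → K) (hne : ∀ i ∈ s, a i ≠ l ∨ b i ≠ m) :
    ∀ x : ι → V, (∀ i ∈ s, f (x i) = a i • x i) → (∀ i ∈ s, g (x i) = b i • x i) → v = ∑ i ∈ s, x i → v = 0 := by
  classical
  induction s using Finset.induction_on with
  | empty => intro x _ _ h; simpa using h
  | insert j s hj ih =>
    intro x hfx hgx h
    rw [Finset.sum_insert hj] at h
    have ih' := ih (fun i hi => hne i (Finset.mem_insert_of_mem hi))
    rcases hne j (Finset.mem_insert_self _ _) with hl | hm
    · have hl' : l - a j ≠ 0 := sub_ne_zero.2 (Ne.symm hl)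
      refine ih' (fun i => ((l - a j)⁻¹ * (a i - a j)) • x i) ?_ ?_ ?_
      · intro i hi
        rw [map_smul, hfx i (Finset.mem_insert_of_mem hi), smul_comm]
      · intro i hi
        rw [map_smul, hgx i (Finset.mem_insert_of_mem hi), smul_comm]
      · have h1 : f v - a j • v = (l - a j) • v := by rw [hf, sub_smul]
        have h2 : f v - a j • v = ∑ i ∈ s, (a i - a j) • x i := by
          rw [h, map_add, map_sum, hfx j (Finset.mem_insert_self _ _), smul_add, Finset.smul_sum,
            Finset.sum_congr rfl (fun i hi => hfx i (Finset.mem_insert_of_mem hi))]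
          simp only [sub_smul, Finset.sum_sub_distrib]
          abel
        have h3 : v = (l - a j)⁻¹ • ∑ i ∈ s, (a i - a j) • x i := by
          rw [← h2, h1, smul_smul, inv_mul_cancel₀ hl', one_smul]
        rw [h3, Finset.smul_sum]
        simp only [smul_smul]
    · have hl' : m - b j ≠ 0 := sub_ne_zero.2 (Ne.symm hm)
      refine ih' (fun i => ((m - b j)⁻¹ * (b i - b j)) • x i) ?_ ?_ ?_
      · intro i hi
        rw [map_smul, hfx i (Finset.mem_insert_of_mem hi), smul_comm]
      · intro i hi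
        rw [map_smul, hgx i (Finset.mem_insert_of_mem hi), smul_comm]
      · have h1 : g v - b j • v = (m - b j) • v := by rw [hg, sub_smul]
        have h2 : g v - b j • v = ∑ i ∈ s, (b i - b j) • x i := by
          rw [h, map_add, map_sum, hgx j (Finset.mem_insert_self _ _), smul_add, Finset.smul_sum,
            Finset.sum_congr rfl (fun i hi => hgx i (Finset.mem_insert_of_mem hi))]
          simp only [sub_smul, Finset.sum_sub_distrib]
          abel
        have h3 : v = (m - b j)⁻¹ • ∑ i ∈ s, (b i - b j) • x i := by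
          rw [← h2, h1, smul_smul, inv_mul_cancel₀ hl', one_smul]
        rw [h3, Finset.smul_sum]
        simp only [smul_smul]

/-- an element of odd order equal to its inverse is trivial -/
theorem eq_one_of_inv {G : Type*} [Group G] {x : G} {n : ℕ} (hn : Odd n) (h1 : x ^ n = 1) (h2 : x = x⁻¹) : x = 1 := by
  obtain ⟨k, rfl⟩ := hn
  have h3 : x * x = 1 := by nth_rewrite 2 [h2]; exact mul_inv_cancel x
  rw [pow_succ, pow_mul, pow_two, h3, one_pow, one_mul] at h1
  exact h1

theorem eq_one_of_inv₀ {x : K} {n : ℕ} (hn : Odd n) (h1 : x ^ n = 1) (h2 : x = x⁻¹) : x = 1 := by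
  have hx : x ≠ 0 := by
    rintro rfl
    obtain ⟨k, rfl⟩ := hn
    simp at h1
  obtain ⟨k, rfl⟩ := hn
  have h3 : x * x = 1 := by nth_rewrite 2 [h2]; exact mul_inv_cancel₀ hx
  rw [pow_succ, pow_mul, pow_two, h3, one_pow, one_mul] at h1
  exact h1

namespace Bir

variable {ρ : Representation K H V} {y z : H} {W : Submodule K V}

/-- `u` of odd order inverted by `z` and commuting with `y u y⁻¹` is trivial. -/
theorem of_commute [IsAlgClosed K] [FiniteDimensional K V] (B : Bir ρ y z W) {n : ℕ} (hn : Odd n)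
    (hnK : (n : K) ≠ 0) {u w : H} (hu : u ^ n = 1) (hw : y * u = w * y) (hz : z * u = u⁻¹ * z)
    (huw : u * w = w * u) (v : V) : ρ u v = v := by
  have hyw : y * w = u⁻¹ * y := by
    have h1 : y * w * y = u⁻¹ * y * y := by
      rw [mul_assoc, ← hw, ← mul_assoc, B.sq, hz, mul_assoc u⁻¹, B.sq]
    exact mul_right_cancel h1
  -- `u y = y w⁻¹`
  have huy : u * y = y * w⁻¹ := by
    rw [eq_mul_inv_iff_mul_eq, mul_assoc, hyw, mul_inv_cancel_left]
  have hwy : w * y = y * u := hw.symm
  have huz : u * z = z * u⁻¹ := by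
    rw [eq_mul_inv_iff_mul_eq, mul_assoc, hz, mul_inv_cancel_left]
  have hwz : w * z = z * w⁻¹ := by
    -- w = y u y⁻¹
    have h1 : w = y * u * y⁻¹ := by rw [hw, mul_inv_cancel_right]
    have h2 : z * y⁻¹ = y⁻¹ * z := by
      rw [eq_inv_mul_iff_mul_eq, ← mul_assoc, ← B.zy, mul_inv_cancel_right]
    rw [h1, mul_assoc, ← h2, mul_assoc, ← mul_assoc u, huz, mul_inv_rev, mul_inv_rev, inv_inv, ← mul_assoc,
      ← mul_assoc, ← B.zy]
    simp only [mul_assoc]
  have hwn : w ^ n = 1 := by
    have h1 : w = y * u * y⁻¹ := by rw [hw, mul_inv_cancel_right]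
    rw [h1, conj_pow, hu, mul_one, mul_inv_cancel]
  by_contra hne
  -- common eigenvector
  obtain ⟨x, -, hx1, l, hl⟩ := exists_eig_not_mem (isSemisimple (ρ := ρ) hu hnK)
    (E := ⊤) (F := LinearMap.ker (ρ u - 1)) (fun v _ => trivial)
    (fun v hv => by
      rw [LinearMap.mem_ker, LinearMap.sub_apply, Module.End.one_apply, sub_eq_zero] at hv ⊢
      rw [hv]; exact hv) le_top
    (fun h => hne (by
      have h1 : v ∈ LinearMap.ker (ρ u - 1) := h trivial
      rw [LinearMap.mem_ker, LinearMap.sub_apply, Module.End.one_apply, sub_eq_zero] at h1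
      exact h1))
  have hx0 : x ≠ 0 := by rintro rfl; exact hx1 (Submodule.zero_mem _)
  have hl1 : l ≠ 1 := by
    rintro rfl
    apply hx1
    rw [LinearMap.mem_ker, LinearMap.sub_apply, Module.End.one_apply, hl, one_smul, sub_self]
  obtain ⟨v', hv', hv0, m, hm⟩ := exists_eig (ρ w) (E := Module.End.eigenspace (ρ u) l)
    (fun h => hx0 (by
      have h1 : x ∈ Module.End.eigenspace (ρ u) l := Module.End.mem_eigenspace_iff.2 hl
      rw [h, Submodule.mem_bot] at h1; exact h1))
    (fun v hv => by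
      rw [Module.End.mem_eigenspace_iff] at hv ⊢
      rw [← mul_app, huw, mul_app, hv, map_smul])
  rw [Module.End.mem_eigenspace_iff] at hv'
  have hl0 : l ≠ 0 := eig_ne_zero hv' hv0
  have hm0 : m ≠ 0 := eig_ne_zero hm hv0
  have hln : l ^ n = 1 := eig_pow_orderOf hv' hv0 hu
  have hll : l ≠ l⁻¹ := fun h => hl1 (eq_one_of_inv₀ hn hln h)
  have hui := inv_app_eig hv' hl0
  have hwi := inv_app_eig hm hm0
  apply hv0
  refine weight_sep hv' hm (Finset.univ : Finset (Fin 3)) ![m⁻¹, m, l⁻¹] ![l, l⁻¹, m⁻¹] ?_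
    ![ρ y v', ρ y (ρ z v'), -ρ z v'] ?_ ?_ ?_
  · intro i _
    fin_cases i
    · show m⁻¹ ≠ l ∨ l ≠ m
      by_contra h
      push Not at h
      exact hll (by rw [← h.1, inv_inv, h.1, h.2])
    · show m ≠ l ∨ l⁻¹ ≠ m
      by_contra h
      push Not at h
      exact hll (by rw [h.2, h.1])
    · show l⁻¹ ≠ l ∨ m⁻¹ ≠ m
      exact Or.inl (Ne.symm hll)
  · intro i _
    fin_cases i
    · show ρ u (ρ y v') = m⁻¹ • ρ y v'
      rw [← mul_app, huy, mul_app, hwi, map_smul]
    · show ρ u (ρ y (ρ z v')) = m • ρ y (ρ z v')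
      rw [← mul_app, ← mul_app, huy, mul_assoc, mul_app]
      have h1 : w⁻¹ * z = z * w := by
        rw [inv_mul_eq_iff_eq_mul, ← mul_assoc, hwz, inv_mul_cancel_right]
      rw [h1, mul_app, hm, map_smul, map_smul]
    · show ρ u (-ρ z v') = l⁻¹ • -ρ z v'
      rw [map_neg, ← mul_app, huz, mul_app, hui, map_smul, smul_neg]
  · intro i _
    fin_cases i
    · show ρ w (ρ y v') = l • ρ y v'
      rw [← mul_app, hwy, mul_app, hv', map_smul]
    · show ρ w (ρ y (ρ z v')) = l⁻¹ • ρ y (ρ z v')
      rw [← mul_app, ← mul_app, hwy, mul_assoc, huz, mul_app, mul_app, hui, map_smul, map_smul]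
    · show ρ w (-ρ z v') = m⁻¹ • -ρ z v'
      rw [map_neg, ← mul_app, hwz, mul_app, hwi, map_smul, smul_neg]
  · rw [Fin.sum_univ_three]
    show v' = ρ y v' + ρ y (ρ z v') + -ρ z v'
    rw [B.rel]; abel

end Bir

end Cfsg.Agent.H565.RV
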