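import Cfsg.Agent.H551.OddTwoD
import Cfsg.Agent.H565.RV.Own

/-!
# TEAM RV, row `NRow` in the own odd characteristic: Coxeter types whose proper parabolic subgroups have even index (helper565)

The proofs are those of `H551.OddTwoNeg`, `H551.OddTwoD` (helper551), with the index instead of the number of double cosets.
-/

set_option autoImplicit false

namespace Cfsg.Agent.H565.RV

open CoxeterSystem Cfsg.Agent.ChevalleyStructure.CoxeterGeom Cfsg.Agent.Tits.Roots Cfsg.Agent.Tits.Core
  Cfsg.Agent.Tits.RootComb Cfsg.Agent.H551.OddTwo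

/-- the proper parabolic subgroups have even index -/
def EvenIdx {I : Type*} (M : CoxeterMatrix I) : Prop :=
  ∀ J : Set I, J ≠ Set.univ → Even (WJ M.toCoxeterSystem J).index

section

variable {I : Type*} {M : CoxeterMatrix I}

/-- a central involution in no proper parabolic subgroup -/
theorem evenIdx_of_central [Finite M.Group] (z : M.Group) (hz : z * z = 1) (hc : ∀ w : M.Group, z * w = w * z)
    (hJ : ∀ J : Set I, J ≠ Set.univ → z ∉ WJ M.toCoxeterSystem J) : EvenIdx M := by
  intro J hJ1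
  have hzJ := hJ J hJ1
  -- `z` acts without fixed points
  have h1 : (Nat.card (M.Group ⧸ WJ M.toCoxeterSystem J)) % 2 = 0 := by
    have : Finite (M.Group ⧸ WJ M.toCoxeterSystem J) := inferInstance
    have hp : IsPGroup 2 (Subgroup.zpowers z) := by
      rintro ⟨x, hx⟩
      obtain ⟨k, rfl⟩ := Subgroup.mem_zpowers_iff.1 hx
      refine ⟨1, Subtype.ext ?_⟩
      change (z ^ k) ^ 2 ^ 1 = 1
      rw [pow_one, ← zpow_natCast, ← zpow_mul, mul_comm, zpow_mul, zpow_natCast, sq, hz, one_zpow]
    have : Fact (Nat.Prime 2) := ⟨Nat.prime_two⟩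
    have h2 := hp.card_modEq_card_fixedPoints (M.Group ⧸ WJ M.toCoxeterSystem J)
    have h3 : Nat.card (MulAction.fixedPoints (Subgroup.zpowers z) (M.Group ⧸ WJ M.toCoxeterSystem J)) = 0 := by
      rw [Nat.card_eq_zero]
      left
      refine ⟨?_⟩
      rintro ⟨ω, hω⟩
      obtain ⟨w, rfl⟩ := QuotientGroup.mk_surjective ω
      have h3 : (QuotientGroup.mk (z * w) : M.Group ⧸ WJ M.toCoxeterSystem J) = QuotientGroup.mk w :=
        hω ⟨z, Subgroup.mem_zpowers z⟩
      rw [QuotientGroup.eq, hc w, mul_inv_rev, inv_mul_cancel_right] at h3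
      exact hzJ (by rw [← inv_inv z]; exact inv_mem h3)
    rw [h3] at h2
    exact h2
  exact Nat.even_iff.2 h1

end

section neg

variable {I : Type*} [Fintype I] [DecidableEq I] {M : CoxeterMatrix I} {A : I → I → ℤ}

theorem evenIdx_of_neg [Finite M.Group] (h : IsCartan M A) (z : M.Group)
    (hz : ∀ x, rep M.toCoxeterSystem h z x = -x) : EvenIdx M := by
  have hinj := rep_injective M.toCoxeterSystem h
  refine evenIdx_of_central z ?_ ?_ ?_
  · apply hinj
    rw [map_one]
    refine LinearMap.ext fun x => ?_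
    rw [rep_mul_apply, hz, hz, neg_neg]
    rfl
  · intro w
    apply hinj
    refine LinearMap.ext fun x => ?_
    rw [rep_mul_apply, rep_mul_apply, hz, hz, map_neg]
  · intro J hJ hzJ
    obtain ⟨k, hk⟩ : ∃ k, k ∉ J := by
      by_contra hcon
      push Not at hcon
      exact hJ (Set.eq_univ_of_forall hcon)
    have h1 := rep_apply_of_mem M.toCoxeterSystem h hzJ (sr k) hk
    rw [hz, Pi.neg_apply, sr_self] at h1
    omega

theorem evenIdx_of_neg_sr [Finite M.Group] (h : IsCartan M A) (z : M.Group)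
    (hz : ∀ i, rep M.toCoxeterSystem h z (sr i) = -sr i) : EvenIdx M := by
  refine evenIdx_of_neg h z fun x => ?_
  have hx : x = ∑ k, x k • sr k := by
    funext k
    rw [Finset.sum_apply, Finset.sum_eq_single k (fun b _ hb => by
      rw [Pi.smul_apply, sr_ne hb.symm, smul_zero]) (by simp), Pi.smul_apply, sr_self, smul_eq_mul, mul_one]
  rw [hx, map_sum, ← Finset.sum_neg_distrib]
  refine Finset.sum_congr rfl fun k _ => ?_
  rw [map_smul, hz, smul_neg]

end neg

section word

variable {l : ℕ} {M : CoxeterMatrix (Fin l)} {A : Fin l → Fin l → ℤ}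

theorem evenIdx_of_negOK [Finite M.Group] (h : IsCartan M A) (ω : List (Fin l)) (hω : negOK l A ω = true) :
    EvenIdx M := by
  refine evenIdx_of_neg_sr h (M.toCoxeterSystem.wordProd ω) fun i => ?_
  have key : ∀ (ω : List (Fin l)) (v : List ℤ), rep M.toCoxeterSystem h (M.toCoxeterSystem.wordProd ω) (vec l v) =
      vec l (ω.foldr (stepF A) v) := by
    intro ω v
    induction ω with
    | nil => rw [wordProd_nil, map_one]; rfl
    | cons j ω ih => rw [wordProd_cons, rep_mul_apply, ih, rep_simple, List.foldr_cons, vec_stepF]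
  have h1 := List.all_eq_true.1 hω i (List.mem_finRange i)
  simp only [decide_eq_true_eq] at h1
  have h2 := key ω ((List.finRange l).map fun k => if k = i then 1 else 0)
  rw [h1, vec_single, vec_single, one_smul, neg_one_smul] at h2
  exact h2

end word

theorem evenIdx_E7 [Finite CoxeterMatrix.E₇.Group] : EvenIdx CoxeterMatrix.E₇ := by
  refine evenIdx_of_negOK (isCartan_cartanOf _ ?_)
    ((List.replicate 9 [0, 1, 2, 3, 4, 5, 6]).flatten) ?_
  · intro i j
    fin_cases i <;> fin_cases j <;> decide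
  · decide +kernel

theorem evenIdx_E8 [Finite CoxeterMatrix.E₈.Group] : EvenIdx CoxeterMatrix.E₈ := by
  refine evenIdx_of_negOK (isCartan_cartanOf _ ?_)
    ((List.replicate 15 [0, 1, 2, 3, 4, 5, 6, 7]).flatten) ?_
  · intro i j
    fin_cases i <;> fin_cases j <;> decide
  · decide +kernel

theorem evenIdx_F4 [Finite CoxeterMatrix.F₄.Group] : EvenIdx CoxeterMatrix.F₄ := by
  refine evenIdx_of_negOK isCartan_F4 ((List.replicate 6 [0, 1, 2, 3]).flatten) ?_
  decide +kernel

theorem evenIdx_G2 [Finite CoxeterMatrix.G₂.Group] : EvenIdx CoxeterMatrix.G₂ := by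
  refine evenIdx_of_negOK isCartan_G2 ((List.replicate 3 [0, 1]).flatten) ?_
  decide +kernel

theorem evenIdx_one (M : CoxeterMatrix (Fin 1)) [Finite M.Group] : EvenIdx M := by
  refine evenIdx_of_negOK (A := fun _ _ => 2) ⟨fun _ => rfl, fun i j hij => absurd (Subsingleton.elim i j) hij⟩ [0] ?_
  decide +kernel


section TypeB

open Cfsg.Agent.Nodes.TypeC

variable {n : ℕ}

theorem evenIdx_B [Finite (CoxeterMatrix.B n).Group] : EvenIdx (CoxeterMatrix.B n) := by
  obtain ⟨ω, hω⟩ := gen_ngB (n := n)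
  refine evenIdx_of_neg_sr (isCartan n) ((CoxeterMatrix.B n).toCoxeterSystem.wordProd ω) fun i => ?_
  have key : ∀ (ω : List (Fin n)) (x : Fin n → ℤ) (a b : Fin n × Bool), ee x = wt a + wt b →
      ee (rep (CoxeterMatrix.B n).toCoxeterSystem (isCartan n) ((CoxeterMatrix.B n).toCoxeterSystem.wordProd ω) x) =
        wt (ω.foldr sg a) + wt (ω.foldr sg b) := by
    intro ω x a b hx
    induction ω with
    | nil => rw [wordProd_nil, map_one]; exact hx
    | cons j ω ih => rw [wordProd_cons, rep_mul_apply, rep_simple, ee_refl_of ih]; rfl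
  apply ee_injective
  rw [key ω (sr i) (i, true) (nx i) (ee_sr i), hω, hω, wt_ng, wt_ng, ee_neg, ee_sr, bt]
  abel

end TypeB

section TypeD

open Cfsg.Agent.Nodes.TypeC (ng wt wt_ng ng_fst wt_apply)
open Cfsg.Agent.Nodes.TypeD

variable {n : ℕ}

theorem evenIdx_TypeD (hn : 1 ≤ n) [Finite (M n).Group] : EvenIdx (M n) := by
  intro J hJ
  by_contra hodd
  rw [Nat.not_even_iff_odd] at hodd
  obtain ⟨k, hk⟩ : ∃ k, k ∉ J := by
    by_contra hcon
    push Not at hcon
    exact hJ (Set.eq_univ_of_forall hcon)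
  obtain ⟨g, hg⟩ := Cfsg.Agent.H453.OddM.Cov.two_group hodd (isPGroup_EE (n := n))
  set r := rep (M n).toCoxeterSystem (isCartan n) with hr
  -- the functional
  let φ : (Fin (n + 2) → ℤ) →ₗ[ℤ] ℤ := (LinearMap.proj k : (Fin (n + 2) → ℤ) →ₗ[ℤ] ℤ).comp (r g)
  have hφ : ∀ w ∈ EE n, ∀ x, φ (r w x) = φ x := by
    intro w hw x
    change r g (r w x) k = r g x k
    have h1 := rep_apply_of_mem (M n).toCoxeterSystem (isCartan n) (hg w hw) (r g x) hk
    rw [← hr, rep_mul_apply, rep_mul_apply, ← hr, rep_inv_apply] at h1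
    exact h1
  have h2 : ∀ a : Fin (n + 2), ∃ y, ee y = 2 • wt (a, true) ∧ φ y = 0 := by
    intro a
    obtain ⟨w, hw, x, hx⟩ := exists_two hn a
    exact ⟨_, hx, by rw [map_sub, ← hr, hφ w hw, sub_self]⟩
  have h3 : ∀ a : Fin (n + 2) × Bool, ∃ y, ee y = 2 • wt a ∧ φ y = 0 := by
    rintro ⟨a, s⟩
    obtain ⟨y, hy, hy'⟩ := h2 a
    cases s
    · refine ⟨-y, ?_, by rw [map_neg, hy', neg_zero]⟩
      have h4 : wt (a, false) = -wt (a, true) := wt_ng (a, true)
      rw [ee_neg, hy, h4, smul_neg]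
    · exact ⟨y, hy, hy'⟩
  have h4 : ∀ i, φ (sr i) = 0 := by
    intro i
    obtain ⟨y, hy, hy'⟩ := h3 (i, true)
    obtain ⟨z, hz, hz'⟩ := h3 (nx i)
    have h5 : (2 : ℤ) • sr i = y + z := by
      apply ee_injective
      rw [ee_smul, ee_add, hy, hz, ee_sr, bt, smul_add]
      rfl
    have h6 : (2 : ℤ) • φ (sr i) = 0 := by rw [← map_smul, h5, map_add, hy', hz', add_zero]
    exact (smul_eq_zero.1 h6).resolve_left (by norm_num)
  have h5 : φ = 0 := LinearMap.pi_ext' fun i => LinearMap.ext_ring (h4 i)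
  have h6 : φ (r g⁻¹ (sr k)) = 1 := by
    change r g (r g⁻¹ (sr k)) k = 1
    rw [hr, rep_apply_inv, sr_self]
  rw [h5] at h6
  exact absurd h6 (by norm_num)

end TypeD

end Cfsg.Agent.H565.RV
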