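import Cfsg.Agent.H565.RV.Core

/-!
# The exceptional (class 2) case: `ω³ = 1`, `dim E = 3`, `W ≤ E`
-/

set_option autoImplicit false

namespace Cfsg.Agent.H565.RV

open Module

variable {K : Type*} [Field K] {V : Type*} [AddCommGroup V] [Module K V] {H : Type*} [Group H]

/-- `u` of odd order inverted by `z`, `w = y u y⁻¹`, `c = [u, w]` commuting with `u, w, y`. -/
structure Quad (ρ : Representation K H V) (y z : H) (W : Submodule K V) (u w c : H) (n : ℕ) : Prop where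
  B : Bir ρ y z W
  two : (2 : K) ≠ 0
  odd : Odd n
  ne : (n : K) ≠ 0
  hu : u ^ n = 1
  hc : c ^ n = 1
  hw : y * u = w * y
  hz : z * u = u⁻¹ * z
  huw : u * w = c * (w * u)
  hcu : c * u = u * c
  hcw : c * w = w * c
  hcy : c * y = y * c

namespace Quad

variable {ρ : Representation K H V} {y z : H} {W : Submodule K V} {u w c : H} {n : ℕ}

theorem hcz (Q : Quad ρ y z W u w c n) : c * z = z * c := by
  rw [← Q.B.sq, ← mul_assoc, Q.hcy, mul_assoc, Q.hcy, mul_assoc]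

theorem wn (Q : Quad ρ y z W u w c n) : w ^ n = 1 := by
  have h1 : w = y * u * y⁻¹ := by rw [Q.hw, mul_inv_cancel_right]
  rw [h1, conj_pow, Q.hu, mul_one, mul_inv_cancel]

theorem inE {g : H} (hg : c * g = g * c) {ω : K} {v : V} (hv : ρ c v = ω • v) :
    ρ c (ρ g v) = ω • ρ g v := by
  rw [← mul_app, hg, mul_app, hv, map_smul]

/-- (ii) -/
theorem fixed (Q : Quad ρ y z W u w c n) {ω : K} (hω : ω ≠ 1) {v : V} (hv : ρ c v = ω • v)
    (huv : ρ u v = v) (hzv : ρ z v = v) : v = 0 := by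
  have h1 := Q.B.fix v hzv
  have h2 : ρ w v = v := by
    conv_lhs => rw [← h1]
    rw [← mul_app, ← Q.hw, mul_app, huv, h1]
  have h3 : ρ u (ρ w v) = ρ c (ρ w (ρ u v)) := by
    rw [← mul_app, Q.huw, mul_app, mul_app]
  rw [h2, huv, h2, hv] at h3
  have h4 : (1 - ω) • v = 0 := by rw [sub_smul, one_smul, ← h3, sub_self]
  rcases smul_eq_zero.1 h4 with h5 | h5
  · exact absurd (sub_eq_zero.1 h5).symm hω
  · exact h5

theorem uz (Q : Quad ρ y z W u w c n) : u * z = z * u⁻¹ := by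
  rw [eq_mul_inv_iff_mul_eq, mul_assoc, Q.hz, mul_inv_cancel_left]

theorem fix_mem (Q : Quad ρ y z W u w c n) {ω : K} (hω : ω ≠ 1) {v : V} (hv : ρ c v = ω • v)
    (huv : ρ u v = v) : ρ z v = -v := by
  have h1 : v + ρ z v = 0 := by
    apply Q.fixed hω
    · rw [map_add, inE Q.hcz hv, hv, smul_add]
    · rw [map_add, huv, ← mul_app, Q.uz, mul_app]
      congr 2
      conv_lhs => rw [← huv]
      exact inv_app_app u v
    · rw [map_add, Q.B.zz, add_comm]
  exact eq_neg_of_add_eq_zero_right h1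

theorem fix_memW (Q : Quad ρ y z W u w c n) {ω : K} (hω : ω ≠ 1) {v : V} (hv : ρ c v = ω • v)
    (huv : ρ u v = v) : v ∈ W := Q.B.mem_of_neg Q.two (Q.fix_mem hω hv huv)

/-- (iii) -/
theorem inEk (Q : Quad ρ y z W u w c n) {ω : K} {v : V} (hv : ρ c v = ω • v) (k : ℕ) :
    ρ c (ρ (w ^ k) v) = ω • ρ (w ^ k) v :=
  inE (((show Commute c w from Q.hcw).pow_right k).eq) hv

theorem chain (Q : Quad ρ y z W u w c n) {ω l : K} {v : V} (hv : ρ c v = ω • v)
    (huv : ρ u v = l • v) (k : ℕ) : ρ u (ρ (w ^ k) v) = (l * ω ^ k) • ρ (w ^ k) v := by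
  induction k with
  | zero => rw [pow_zero, one_app, pow_zero, mul_one, huv]
  | succ k ih =>
    rw [pow_succ', mul_app, ← mul_app, Q.huw, mul_app, mul_app, ih, map_smul, map_smul,
      inE Q.hcw (Q.inEk hv k), smul_smul, pow_succ, mul_assoc]

theorem uzv (Q : Quad ρ y z W u w c n) {l : K} {v : V} (hl : l ≠ 0)
    (huv : ρ u v = l • v) : ρ u (ρ z v) = l⁻¹ • ρ z v := by
  rw [← mul_app, Q.uz, mul_app, inv_app_eig huv hl, map_smul]

/-- (iv) -/
theorem exists_fix (Q : Quad ρ y z W u w c n) {ω l : K} (hω : ω ≠ 1) {v : V} (hv0 : v ≠ 0) (hv : ρ c v = ω • v)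
    (huv : ρ u v = l • v) : ∃ k : ℕ, l * ω ^ k = 1 := by
  by_contra hne
  push Not at hne
  have hl0 := eig_ne_zero huv hv0
  have hω0 := eig_ne_zero hv hv0
  have hln := eig_pow_orderOf huv hv0 Q.hu
  have hωn := eig_pow_orderOf hv hv0 Q.hc
  have hcross : ∀ k : ℕ, l * l * ω ^ k ≠ 1 := by
    intro k hk
    obtain ⟨t, ht⟩ := Q.odd
    apply hne (k * (t + 1))
    have h1 : (l * l * ω ^ k) ^ (t + 1) = 1 := by rw [hk, one_pow]
    have h2 : (l * l * ω ^ k) ^ (t + 1) = l ^ n * (l * ω ^ (k * (t + 1))) := by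
      rw [ht, mul_pow, ← pow_mul]; ring
    rw [h2, hln, one_mul] at h1
    exact h1
  have hω2 : ω ^ 2 ≠ 1 := by
    intro h
    apply hω
    refine eq_one_of_inv₀ Q.odd hωn ?_
    rw [← mul_eq_one_iff_eq_inv₀ hω0, ← pow_two, h]
  have hinj : ∀ i j : Fin 3, ω ^ (i : ℕ) = ω ^ (j : ℕ) → i = j := by
    have key : ∀ i j : ℕ, i < j → j < 3 → ω ^ i ≠ ω ^ j := by
      intro i j hij hj h
      have h1 : ω ^ (j - i) = 1 := by
        have h2 : ω ^ j = ω ^ i * ω ^ (j - i) := by rw [← pow_add]; congr 1; omega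
        rw [h2] at h
        have h3 := mul_left_cancel₀ (pow_ne_zero i hω0) ((mul_one _).trans h)
        exact h3.symm
      have h4 : j - i = 1 ∨ j - i = 2 := by omega
      rcases h4 with h4 | h4 <;> rw [h4] at h1
      · exact hω (by simpa using h1)
      · exact hω2 h1
    intro i j h
    rcases lt_trichotomy (i : ℕ) (j : ℕ) with h1 | h1 | h1
    · exact absurd h (key _ _ h1 j.2)
    · exact Fin.ext h1
    · exact absurd h.symm (key _ _ h1 i.2)
  -- the six vectors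
  let L : Fin 3 ⊕ Fin 3 → K := Sum.elim (fun k => l * ω ^ (k : ℕ)) (fun k => (l * ω ^ (k : ℕ))⁻¹)
  let X : Fin 3 ⊕ Fin 3 → V := Sum.elim (fun k => ρ (w ^ (k : ℕ)) v) (fun k => ρ z (ρ (w ^ (k : ℕ)) v))
  have hL : Function.Injective L := by
    rintro (i | i) (j | j) h
    · exact congrArg Sum.inl (hinj i j (mul_left_cancel₀ hl0 h))
    · exfalso
      have h1 : l * ω ^ (i : ℕ) = (l * ω ^ (j : ℕ))⁻¹ := h
      rw [← mul_eq_one_iff_eq_inv₀ (mul_ne_zero hl0 (pow_ne_zero _ hω0))] at h1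
      apply hcross (i + j)
      rw [← h1, pow_add]; ring
    · exfalso
      have h1 : (l * ω ^ (i : ℕ))⁻¹ = l * ω ^ (j : ℕ) := h
      have h2 := h1.symm
      rw [← mul_eq_one_iff_eq_inv₀ (mul_ne_zero hl0 (pow_ne_zero _ hω0))] at h2
      apply hcross (i + j)
      rw [← h2, pow_add]; ring
    · exact congrArg Sum.inr (hinj i j (mul_left_cancel₀ hl0 (inv_injective h)))
  have hX0 : ∀ i, X i ≠ 0 := by
    have h1 : ∀ k : Fin 3, ρ (w ^ (k : ℕ)) v ≠ 0 := fun k h => hv0 (by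
      apply app_inj (ρ := ρ) (g := w ^ (k : ℕ)); rw [h, map_zero])
    rintro (i | i)
    · exact h1 i
    · intro h
      exact h1 i (by apply app_inj (ρ := ρ) (g := z); rw [map_zero]; exact h)
  have hXe : ∀ i, ρ u (X i) = L i • X i := by
    rintro (i | i)
    · exact Q.chain hv huv i
    · exact Q.uzv (mul_ne_zero hl0 (pow_ne_zero _ hω0)) (Q.chain hv huv i)
  have hXi := eig_indep hL hX0 hXe
  refine Q.B.not_three (t := fun k : Fin 3 => ρ (w ^ (k : ℕ)) v - ρ z (ρ (w ^ (k : ℕ)) v))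
    (fun k => Q.B.mem _) ?_
  rw [Fintype.linearIndependent_iff] at hXi ⊢
  intro g hg i
  have h1 := hXi (Sum.elim g (fun k => - g k)) (by
    rw [Fintype.sum_sum_type, ← Finset.sum_add_distrib, ← hg]
    apply Finset.sum_congr rfl
    intro k _
    show g k • ρ (w ^ (k : ℕ)) v + (-g k) • ρ z (ρ (w ^ (k : ℕ)) v) = _
    rw [smul_sub, neg_smul, ← sub_eq_add_neg]) (Sum.inl i)
  exact h1

/-- `ω³ = 1` -/
theorem cube (Q : Quad ρ y z W u w c n) {ω : K} (hω : ω ≠ 1) {v : V} (hv0 : v ≠ 0) (hv : ρ c v = ω • v)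
    (huv : ρ u v = v) : ω ^ 3 = 1 := by
  by_contra h3
  have hω0 := eig_ne_zero hv hv0
  have hωn := eig_pow_orderOf hv hv0 Q.hc
  have hd : 5 ≤ orderOf ω := by
    have h1 : orderOf ω ∣ n := orderOf_dvd_of_pow_eq_one hωn
    have h2 : Odd (orderOf ω) := Odd.of_dvd_nat Q.odd h1
    have h4 : orderOf ω ≠ 1 := fun h => hω (orderOf_eq_one_iff.1 h)
    have h5 : orderOf ω ≠ 3 := fun h => h3 (by rw [← h]; exact pow_orderOf_eq_one ω)
    obtain ⟨t, ht⟩ := h2
    omega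
  have hz := Q.fix_mem hω hv huv
  have huv1 : ρ u v = (1 : K) • v := by rw [one_smul, huv]
  let e : Fin 5 → ℕ := ![2, 3, 1, 4, 0]
  have he : Function.Injective e := by decide
  let L : Fin 5 → K := ![1, ω, ω⁻¹, ω ^ 2, (ω ^ 2)⁻¹]
  have hLe : ∀ i, ω ^ 2 * L i = ω ^ e i := by
    intro i
    fin_cases i
    · show ω ^ 2 * 1 = ω ^ 2; ring
    · show ω ^ 2 * ω = ω ^ 3; ring
    · show ω ^ 2 * ω⁻¹ = ω ^ 1; field_simp
    · show ω ^ 2 * ω ^ 2 = ω ^ 4; ring
    · show ω ^ 2 * (ω ^ 2)⁻¹ = ω ^ 0; rw [pow_zero]; exact mul_inv_cancel₀ (pow_ne_zero _ hω0)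
  have hL : Function.Injective L := by
    intro i j h
    apply he
    have h1 : ω ^ e i = ω ^ e j := by rw [← hLe, ← hLe, h]
    have hlt : ∀ i, e i ∈ Set.Iio (orderOf ω) := by
      intro i
      have : e i ≤ 4 := by revert i; decide
      exact lt_of_le_of_lt this (by omega)
    exact pow_injOn_Iio_orderOf (hlt i) (hlt j) h1
  have hw0 : ∀ k : ℕ, ρ (w ^ k) v ≠ 0 := fun k h => hv0 (by
      apply app_inj (ρ := ρ) (g := w ^ k); rw [h, map_zero])
  have hz0 : ∀ k : ℕ, ρ z (ρ (w ^ k) v) ≠ 0 := fun k h => hw0 k (by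
      apply app_inj (ρ := ρ) (g := z); rw [h, map_zero])
  let X : Fin 5 → V := ![v, ρ (w ^ 1) v, ρ z (ρ (w ^ 1) v), ρ (w ^ 2) v, ρ z (ρ (w ^ 2) v)]
  have hX0 : ∀ i, X i ≠ 0 := by
    intro i
    fin_cases i
    · exact hv0
    · exact hw0 1
    · exact hz0 1
    · exact hw0 2
    · exact hz0 2
  have hc1 := Q.chain hv huv1 1
  have hc2 := Q.chain hv huv1 2
  rw [one_mul] at hc1 hc2
  have hXe : ∀ i, ρ u (X i) = L i • X i := by
    intro i
    fin_cases i
    · exact huv1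
    · show ρ u (ρ (w ^ 1) v) = ω • ρ (w ^ 1) v
      rw [hc1, pow_one ω]
    · show ρ u (ρ z (ρ (w ^ 1) v)) = ω⁻¹ • ρ z (ρ (w ^ 1) v)
      rw [Q.uzv (pow_ne_zero _ hω0) hc1, pow_one ω]
    · exact hc2
    · exact Q.uzv (pow_ne_zero _ hω0) hc2
  have hXi := eig_indep hL hX0 hXe
  refine Q.B.not_three (t := ![v, ρ (w ^ 1) v - ρ z (ρ (w ^ 1) v), ρ (w ^ 2) v - ρ z (ρ (w ^ 2) v)]) ?_ ?_
  · intro i
    fin_cases i
    · exact Q.B.mem_of_neg Q.two hz
    · exact Q.B.mem _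
    · exact Q.B.mem _
  rw [Fintype.linearIndependent_iff] at hXi ⊢
  intro g hg
  have h1 := hXi ![g 0, g 1, - g 1, g 2, - g 2] (by
    rw [Fin.sum_univ_five, ← hg, Fin.sum_univ_three]
    show g 0 • v + g 1 • ρ (w ^ 1) v + (-g 1) • ρ z (ρ (w ^ 1) v) + g 2 • ρ (w ^ 2) v
      + (-g 2) • ρ z (ρ (w ^ 2) v) = g 0 • v + g 1 • (ρ (w ^ 1) v - ρ z (ρ (w ^ 1) v))
      + g 2 • (ρ (w ^ 2) v - ρ z (ρ (w ^ 2) v))
    rw [smul_sub, smul_sub, neg_smul, neg_smul]; abel)
  intro i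
  fin_cases i
  · exact h1 0
  · exact h1 1
  · exact h1 3

/-- the exceptional case -/
theorem main [IsAlgClosed K] [FiniteDimensional K V] (Q : Quad ρ y z W u w c n) {ω : K} (hω : ω ≠ 1)
    (hex : ∃ v ≠ 0, ρ c v = ω • v) :
    ω ^ 3 = 1 ∧ finrank K (Module.End.eigenspace (ρ c) ω) = 3 ∧ W ≤ Module.End.eigenspace (ρ c) ω ∧
      (∃ v₀ ≠ 0, ρ c v₀ = ω • v₀ ∧ ρ u v₀ = v₀ ∧ (∀ v, ρ c v = ω • v → ρ u v = v → ∃ a : K, v = a • v₀) ∧
        (∀ v, ρ c v = ω • v → ∃ a b d : K, v = a • v₀ + b • ρ w v₀ + d • ρ w (ρ w v₀))) ∧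
      ∃ w' ∈ W, ρ u w' ≠ w' := by
  obtain ⟨x, hx0, hx⟩ := hex
  have hω0 := eig_ne_zero hx hx0
  have hωn := eig_pow_orderOf hx hx0 Q.hc
  have hω2 : ω ^ 2 ≠ 1 := by
    intro h
    apply hω
    refine eq_one_of_inv₀ Q.odd hωn ?_
    rw [← mul_eq_one_iff_eq_inv₀ hω0, ← pow_two, h]
  -- an eigenvector of `u`
  obtain ⟨x1, hx1, hx10, l, hl⟩ := exists_eig (ρ u) (E := Module.End.eigenspace (ρ c) ω)
    (fun h => hx0 (by
      have h1 : x ∈ Module.End.eigenspace (ρ c) ω := Module.End.mem_eigenspace_iff.2 hx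
      rw [h, Submodule.mem_bot] at h1; exact h1))
    (fun v hv => by
      rw [Module.End.mem_eigenspace_iff] at hv ⊢
      exact inE Q.hcu hv)
  rw [Module.End.mem_eigenspace_iff] at hx1
  obtain ⟨k, hk⟩ := Q.exists_fix hω hx10 hx1 hl
  -- the fixed vector
  obtain ⟨v₀, hv0, hv, huv⟩ : ∃ v₀ : V, v₀ ≠ 0 ∧ ρ c v₀ = ω • v₀ ∧ ρ u v₀ = v₀ := by
    refine ⟨ρ (w ^ k) x1, ?_, Q.inEk hx1 k, ?_⟩
    · intro h
      apply hx10
      apply app_inj (ρ := ρ) (g := w ^ k); rw [h, map_zero]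
    · rw [Q.chain hx1 hl k, hk, one_smul]
  have hω3 := Q.cube hω hv0 hv huv
  have hzv := Q.fix_mem hω hv huv
  have huv1 : ρ u v₀ = (1 : K) • v₀ := by rw [one_smul, huv]
  have hc1 := Q.chain hv huv1 1
  rw [one_mul, pow_one, pow_one] at hc1
  have hc2 := Q.chain hv huv1 2
  rw [one_mul] at hc2
  have hw1 : ρ w v₀ ≠ 0 := fun h => hv0 (by
      apply app_inj (ρ := ρ) (g := w); rw [h, map_zero])
  have hw2 : ρ (w ^ 2) v₀ ≠ 0 := fun h => hv0 (by
      apply app_inj (ρ := ρ) (g := w ^ 2); rw [h, map_zero])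
  have hcw1 : ρ c (ρ w v₀) = ω • ρ w v₀ := inE Q.hcw hv
  have hcw2 : ρ c (ρ (w ^ 2) v₀) = ω • ρ (w ^ 2) v₀ := Q.inEk hv 2
  have hzw : ρ u (ρ z (ρ w v₀)) = ω⁻¹ • ρ z (ρ w v₀) := Q.uzv hω0 hc1
  have hωi : ω⁻¹ = ω ^ 2 := by
    symm; rw [← mul_eq_one_iff_eq_inv₀ hω0, ← pow_succ, hω3]
  have hωω : ω ≠ ω ^ 2 := by
    intro h
    apply hω
    rw [pow_two] at h
    exact (mul_left_cancel₀ hω0 ((mul_one ω).trans h)).symm
  -- the pair `v₀, t`
  have hzw0 : ρ z (ρ w v₀) ≠ 0 := fun h => hw1 (by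
      apply app_inj (ρ := ρ) (g := z); rw [h, map_zero])
  have hI3 : LinearIndependent K ![v₀, ρ w v₀, ρ z (ρ w v₀)] := by
    refine eig_indep (f := ρ u) (l := ![1, ω, ω ^ 2]) ?_ ?_ ?_
    · intro i j h
      fin_cases i <;> fin_cases j <;> first | rfl | skip
      · exact absurd (show (1 : K) = ω from h).symm hω
      · exact absurd (show (1 : K) = ω ^ 2 from h).symm hω2
      · exact absurd (show ω = (1 : K) from h) hω
      · exact absurd (show ω = ω ^ 2 from h) hωω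
      · exact absurd (show ω ^ 2 = (1 : K) from h) hω2
      · exact absurd (show ω ^ 2 = ω from h).symm hωω
    · intro i
      fin_cases i
      · exact hv0
      · exact hw1
      · exact hzw0
    · intro i
      fin_cases i
      · exact huv1
      · exact hc1
      · show ρ u (ρ z (ρ w v₀)) = (ω ^ 2) • ρ z (ρ w v₀)
        rw [hzw, hωi]
  have hI2 : LinearIndependent K ![v₀, ρ w v₀ - ρ z (ρ w v₀)] := by
    rw [Fintype.linearIndependent_iff] at hI3 ⊢
    intro g hg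
    have h1 := hI3 ![g 0, g 1, - g 1] (by
      rw [← hg, Fin.sum_univ_three, Fin.sum_univ_two]
      show g 0 • v₀ + g 1 • ρ w v₀ + (-g 1) • ρ z (ρ w v₀) = g 0 • v₀ + g 1 • (ρ w v₀ - ρ z (ρ w v₀))
      rw [smul_sub, neg_smul]; abel)
    intro i
    fin_cases i
    · exact h1 0
    · exact h1 1
  have hI3' : LinearIndependent K ![v₀, ρ w v₀, ρ (w ^ 2) v₀] := by
    refine eig_indep (f := ρ u) (l := ![1, ω, ω ^ 2]) ?_ ?_ ?_
    · intro i j h
      fin_cases i <;> fin_cases j <;> first | rfl | skip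
      · exact absurd (show (1 : K) = ω from h).symm hω
      · exact absurd (show (1 : K) = ω ^ 2 from h).symm hω2
      · exact absurd (show ω = (1 : K) from h) hω
      · exact absurd (show ω = ω ^ 2 from h) hωω
      · exact absurd (show ω ^ 2 = (1 : K) from h) hω2
      · exact absurd (show ω ^ 2 = ω from h).symm hωω
    · intro i
      fin_cases i
      · exact hv0
      · exact hw1
      · exact hw2
    · intro i
      fin_cases i
      · exact huv1
      · exact hc1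
      · exact hc2
  have hv0W : v₀ ∈ W := Q.fix_memW hω hv huv
  have htW : ρ w v₀ - ρ z (ρ w v₀) ∈ W := Q.B.mem _
  have hfW := Q.B.finiteDimensional
  -- `W` is spanned by the pair
  have hWspan : Submodule.span K (Set.range ![v₀, ρ w v₀ - ρ z (ρ w v₀)]) = W := by
    apply Submodule.eq_of_le_of_finrank_le
    · rw [Submodule.span_le]
      rintro _ ⟨i, rfl⟩
      fin_cases i
      · exact hv0W
      · exact htW
    · rw [Q.B.rank, finrank_span_eq_card hI2]; rfl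
  have hmemW : ∀ v ∈ W, ∃ a b : K, v = a • v₀ + b • (ρ w v₀ - ρ z (ρ w v₀)) := by
    intro v hvW
    rw [← hWspan, Matrix.range_cons_cons_empty, Submodule.mem_span_pair] at hvW
    obtain ⟨a, b, h⟩ := hvW
    exact ⟨a, b, h.symm⟩
  have hfixE : ∀ v, ρ c v = ω • v → ρ u v = v → ∃ a : K, v = a • v₀ := by
    intro v hv1 hv2
    obtain ⟨a, b, rfl⟩ := hmemW v (Q.fix_memW hω hv1 hv2)
    rw [map_add, map_smul, map_smul, map_sub, huv, hc1, hzw] at hv2
    have h3 : (b * (ω - 1)) • ρ w v₀ + (-(b * (ω⁻¹ - 1))) • ρ z (ρ w v₀) = 0 := by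
      have h4 : b • (ω • ρ w v₀ - ω⁻¹ • ρ z (ρ w v₀)) - b • (ρ w v₀ - ρ z (ρ w v₀)) = 0 := by
        rw [sub_eq_zero]; exact add_left_cancel hv2
      rw [← h4]
      simp only [mul_sub, sub_smul, smul_sub, neg_smul, mul_smul, mul_one]
      abel
    rw [Fintype.linearIndependent_iff] at hI3
    have h5 := hI3 ![0, b * (ω - 1), -(b * (ω⁻¹ - 1))] (by
      rw [← h3, Fin.sum_univ_three]
      show (0 : K) • v₀ + _ + _ = _
      rw [zero_smul, zero_add]; rfl) 1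
    have h6 : b * (ω - 1) = 0 := h5
    rcases mul_eq_zero.1 h6 with h7 | h7
    · exact ⟨a, by rw [h7, zero_smul, add_zero]⟩
    · exact absurd (sub_eq_zero.1 h7) hω
  -- the span of the three vectors
  obtain ⟨δ, hδ⟩ : ∃ δ : K, ρ w (ρ (w ^ 2) v₀) = δ • v₀ := by
    have h1 : ρ w (ρ (w ^ 2) v₀) = ρ (w ^ 3) v₀ := by rw [← mul_app, ← pow_succ']
    rw [h1]
    apply hfixE
    · exact Q.inEk hv 3
    · have := Q.chain hv huv1 3
      rw [this, hω3, one_mul, one_smul]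
  set S : Submodule K V := Submodule.span K (Set.range ![v₀, ρ w v₀, ρ (w ^ 2) v₀]) with hS
  have hS0 : v₀ ∈ S := Submodule.subset_span ⟨0, rfl⟩
  have hS1 : ρ w v₀ ∈ S := Submodule.subset_span ⟨1, rfl⟩
  have hS2 : ρ (w ^ 2) v₀ ∈ S := Submodule.subset_span ⟨2, rfl⟩
  have hSw : ∀ v ∈ S, ρ w v ∈ S := by
    intro v hvS
    induction hvS using Submodule.span_induction with
    | mem x hx =>
      obtain ⟨i, rfl⟩ := hx
      fin_cases i
      · exact hS1
      · show ρ w (ρ w v₀) ∈ S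
        rw [← mul_app, ← pow_two]; exact hS2
      · show ρ w (ρ (w ^ 2) v₀) ∈ S
        rw [hδ]; exact S.smul_mem _ hS0
    | zero => rw [map_zero]; exact S.zero_mem
    | add x y _ _ hx hy => rw [map_add]; exact S.add_mem hx hy
    | smul a x _ hx => rw [map_smul]; exact S.smul_mem _ hx
  have hSu : ∀ v ∈ S, ρ u v ∈ S := by
    intro v hvS
    induction hvS using Submodule.span_induction with
    | mem x hx =>
      obtain ⟨i, rfl⟩ := hx
      fin_cases i
      · show ρ u v₀ ∈ S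
        rw [huv]; exact hS0
      · show ρ u (ρ w v₀) ∈ S
        rw [hc1]; exact S.smul_mem _ hS1
      · show ρ u (ρ (w ^ 2) v₀) ∈ S
        rw [hc2]; exact S.smul_mem _ hS2
    | zero => rw [map_zero]; exact S.zero_mem
    | add x y _ _ hx hy => rw [map_add]; exact S.add_mem hx hy
    | smul a x _ hx => rw [map_smul]; exact S.smul_mem _ hx
  have hSwk : ∀ k : ℕ, ∀ v ∈ S, ρ (w ^ k) v ∈ S := by
    intro k
    induction k with
    | zero => intro v hvS; rw [pow_zero, one_app]; exact hvS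
    | succ k ih => intro v hvS; rw [pow_succ', mul_app]; exact hSw _ (ih v hvS)
  have hSE : S ≤ Module.End.eigenspace (ρ c) ω := by
    rw [hS, Submodule.span_le]
    rintro _ ⟨i, rfl⟩
    fin_cases i
    · exact Module.End.mem_eigenspace_iff.2 hv
    · exact Module.End.mem_eigenspace_iff.2 hcw1
    · exact Module.End.mem_eigenspace_iff.2 hcw2
  have hn0 : 0 < n := Q.odd.pos
  have hES : Module.End.eigenspace (ρ c) ω = S := by
    by_contra hne
    obtain ⟨x, hxE, hxS, m, hm⟩ := exists_eig_not_mem (isSemisimple (ρ := ρ) Q.hu Q.ne)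
      (E := Module.End.eigenspace (ρ c) ω) (F := S) (fun v hv => by
        rw [Module.End.mem_eigenspace_iff] at hv ⊢
        exact inE Q.hcu hv) hSu hSE (fun h => hne (le_antisymm h hSE))
    have hx0 : x ≠ 0 := by rintro rfl; exact hxS S.zero_mem
    rw [Module.End.mem_eigenspace_iff] at hxE
    obtain ⟨k, hk⟩ := Q.exists_fix hω hx0 hxE hm
    obtain ⟨a, ha⟩ := hfixE (ρ (w ^ k) x) (Q.inEk hxE k) (by rw [Q.chain hxE hm k, hk, one_smul])
    apply hxS
    have h1 : ρ (w ^ (n * k - k)) (ρ (w ^ k) x) = x := by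
      rw [← mul_app, ← pow_add, Nat.sub_add_cancel (Nat.le_mul_of_pos_left k hn0), pow_mul, Q.wn, one_pow, one_app]
    rw [← h1, ha]
    exact hSwk _ _ (S.smul_mem _ hS0)
  have hWE : W ≤ Module.End.eigenspace (ρ c) ω := by
    intro v hvW
    obtain ⟨a, b, rfl⟩ := hmemW v hvW
    rw [Module.End.mem_eigenspace_iff]
    rw [map_add, map_smul, map_smul, map_sub, hv, hcw1, inE Q.hcz hcw1]
    simp only [smul_add, smul_sub, smul_smul, mul_comm]
  refine ⟨hω3, ?_, hWE, ⟨v₀, hv0, hv, huv, hfixE, ?_⟩, ρ w v₀ - ρ z (ρ w v₀), htW, ?_⟩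
  · rw [hES, hS, finrank_span_eq_card hI3']; rfl
  · intro v hvE
    have h1 : v ∈ S := by rw [← hES]; exact Module.End.mem_eigenspace_iff.2 hvE
    rw [hS] at h1
    rw [Submodule.mem_span_range_iff_exists_fun] at h1
    obtain ⟨g, hg⟩ := h1
    refine ⟨g 0, g 1, g 2, ?_⟩
    rw [← hg, Fin.sum_univ_three, ← mul_app, ← pow_two]
    rfl
  · intro h
    rw [map_sub, hc1, hzw] at h
    rw [Fintype.linearIndependent_iff] at hI3
    have h5 := hI3 ![0, ω - 1, -(ω⁻¹ - 1)] (by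
      rw [Fin.sum_univ_three]
      show (0 : K) • v₀ + (ω - 1) • ρ w v₀ + (-(ω⁻¹ - 1)) • ρ z (ρ w v₀) = 0
      rw [zero_smul, zero_add, sub_smul, neg_smul, sub_smul, one_smul, one_smul]
      have h7 : ω • ρ w v₀ - ω⁻¹ • ρ z (ρ w v₀) - (ρ w v₀ - ρ z (ρ w v₀)) = 0 := sub_eq_zero.2 h
      rw [← h7]; abel) 1
    have h6 : ω - 1 = 0 := h5
    exact hω (sub_eq_zero.1 h6)

end Quad

end Cfsg.Agent.H565.RV
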